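import Cfsg.Agent.J4Type.POuter
import Cfsg.Agent.S2476
import Cfsg.Agent.S2366
import Cfsg.Agent.H380.AltSpec
import Cfsg.Agent.Prune
set_option linter.all false

-- part: H337/M22Three
section
set_option linter.all false
open scoped Cfsg.Agent.FastGrp

/-!
# The elements of order 3 of `M22` form one conjugacy class
-/

set_option autoImplicit false

namespace Cfsg.Agent.H337.M22Three

open Cfsg Cfsg.Agent.SporadicA.GolayBase Cfsg.Agent.SporadicA.GolayPerm
open Cfsg.Agent.J4Type.CocodeMask Cfsg.Agent.J4Type.POuter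

/-- tables of elements of `M22` conjugating `s` to `s ^ i * s' ^ j` -/
def G01 : ℕ := 970085548432944802511483698474660320
def G02 : ℕ := 964979311927997656854647565250209888
def G10 : ℕ := 967927597525770162379514019195291680
def G11 : ℕ := 965912017058064180586428684847763776
def G12 : ℕ := 984125975465067800684723903624556192
def G20 : ℕ := 967775751955048358589096069482874912
def G21 : ℕ := 967122827053916181473734352956632128
def G22 : ℕ := 963959766426797375330413416464208288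

noncomputable def g01 : M24 := mk G01 (by decide +kernel)
noncomputable def g02 : M24 := mk G02 (by decide +kernel)
noncomputable def g10 : M24 := mk G10 (by decide +kernel)
noncomputable def g11 : M24 := mk G11 (by decide +kernel)
noncomputable def g12 : M24 := mk G12 (by decide +kernel)
noncomputable def g20 : M24 := mk G20 (by decide +kernel)
noncomputable def g21 : M24 := mk G21 (by decide +kernel)
noncomputable def g22 : M24 := mk G22 (by decide +kernel)

/-- `y` is conjugate to `s` by an element of `M22` -/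
def C (y : M24) : Prop := ∃ g : M24, (g : Equiv.Perm GolayPt) ∈ Spor.M22 ∧ g * s = y * g

theorem mem_of_tab {g : M24} {P : ℕ} (hg : IsTab g P) (h0 : papp P (idx none) = idx none)
    (h1 : papp P (idx (some 0)) = idx (some 0)) : (g : Equiv.Perm GolayPt) ∈ Spor.M22 := by
  rw [Cfsg.Agent.SporadicA.MathieuRecog.mem_M22_iff]
  exact ⟨g.2, apply_eq hg h0, apply_eq hg h1⟩

theorem C01 : C s' :=
  ⟨g01, mem_of_tab (isTab_mk _ _) (by decide +kernel) (by decide +kernel),
    eq_of_tab ((isTab_mk _ _).mul tab_s) (tab_s'.mul (isTab_mk _ _)) (by decide +kernel)⟩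
theorem C02 : C (s' * s') :=
  ⟨g02, mem_of_tab (isTab_mk _ _) (by decide +kernel) (by decide +kernel),
    eq_of_tab ((isTab_mk _ _).mul tab_s) ((tab_s'.mul tab_s').mul (isTab_mk _ _)) (by decide +kernel)⟩
theorem C10 : C s :=
  ⟨g10, mem_of_tab (isTab_mk _ _) (by decide +kernel) (by decide +kernel),
    eq_of_tab ((isTab_mk _ _).mul tab_s) (tab_s.mul (isTab_mk _ _)) (by decide +kernel)⟩
theorem C11 : C (s * s') :=
  ⟨g11, mem_of_tab (isTab_mk _ _) (by decide +kernel) (by decide +kernel),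
    eq_of_tab ((isTab_mk _ _).mul tab_s) ((tab_s.mul tab_s').mul (isTab_mk _ _)) (by decide +kernel)⟩
theorem C12 : C (s * (s' * s')) :=
  ⟨g12, mem_of_tab (isTab_mk _ _) (by decide +kernel) (by decide +kernel),
    eq_of_tab ((isTab_mk _ _).mul tab_s) ((tab_s.mul (tab_s'.mul tab_s')).mul (isTab_mk _ _))
      (by decide +kernel)⟩
theorem C20 : C (s * s) :=
  ⟨g20, mem_of_tab (isTab_mk _ _) (by decide +kernel) (by decide +kernel),
    eq_of_tab ((isTab_mk _ _).mul tab_s) ((tab_s.mul tab_s).mul (isTab_mk _ _)) (by decide +kernel)⟩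
theorem C21 : C (s * s * s') :=
  ⟨g21, mem_of_tab (isTab_mk _ _) (by decide +kernel) (by decide +kernel),
    eq_of_tab ((isTab_mk _ _).mul tab_s) (((tab_s.mul tab_s).mul tab_s').mul (isTab_mk _ _))
      (by decide +kernel)⟩
theorem C22 : C (s * s * (s' * s')) :=
  ⟨g22, mem_of_tab (isTab_mk _ _) (by decide +kernel) (by decide +kernel),
    eq_of_tab ((isTab_mk _ _).mul tab_s) (((tab_s.mul tab_s).mul (tab_s'.mul tab_s')).mul (isTab_mk _ _))
      (by decide +kernel)⟩

theorem C_pow (i j : Fin 3) (h : ¬ (i = 0 ∧ j = 0)) : C (s ^ (i : ℕ) * s' ^ (j : ℕ)) := by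
  fin_cases i <;> fin_cases j
  · exact absurd ⟨rfl, rfl⟩ h
  · simpa using C01
  · simpa [pow_two] using C02
  · simpa using C10
  · simpa using C11
  · simpa [pow_two] using C12
  · simpa [pow_two] using C20
  · simpa [pow_two] using C21
  · simpa [pow_two] using C22

/-- the element `s` of `M22` -/
noncomputable def S : Spor.M22 := ⟨(s : Equiv.Perm GolayPt), s_mem⟩
/-- the element `s'` of `M22` -/
noncomputable def S' : Spor.M22 := ⟨(s' : Equiv.Perm GolayPt), s'_mem⟩

theorem S_cube : S ^ 3 = 1 :=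
  Subtype.ext (congrArg (fun x : M24 => (x : Equiv.Perm GolayPt)) s_cube)
theorem S'_cube : S' ^ 3 = 1 :=
  Subtype.ext (congrArg (fun x : M24 => (x : Equiv.Perm GolayPt)) s'_cube)
theorem S_comm : S * S' = S' * S :=
  Subtype.ext (congrArg (fun x : M24 => (x : Equiv.Perm GolayPt)) s_comm)

theorem conj_pow' (i j : Fin 3) (h : ¬ (i = 0 ∧ j = 0)) : IsConj S (S ^ (i : ℕ) * S' ^ (j : ℕ)) := by
  obtain ⟨g, hg, he⟩ := C_pow i j h
  rw [isConj_iff]
  refine ⟨⟨(g : Equiv.Perm GolayPt), hg⟩, ?_⟩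
  rw [mul_inv_eq_iff_eq_mul]
  exact Subtype.ext (congrArg (fun x : M24 => (x : Equiv.Perm GolayPt)) he)

theorem S_ne : S ≠ 1 := fun h =>
  s_ne (Subtype.ext (congrArg (fun x : Spor.M22 => (x : Equiv.Perm GolayPt)) h))

theorem pow_ne (i j : Fin 3) (h : ¬ (i = 0 ∧ j = 0)) : S ^ (i : ℕ) * S' ^ (j : ℕ) ≠ 1 := by
  intro h1
  have h2 := conj_pow' i j h
  rw [h1, isConj_comm, isConj_one_right] at h2
  exact S_ne h2

theorem pow_injective : Function.Injective (fun p : Fin 3 × Fin 3 => S ^ (p.1 : ℕ) * S' ^ (p.2 : ℕ)) := by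
  rintro ⟨i, j⟩ ⟨k, l⟩ h
  have h0 : S ^ (i : ℕ) * S' ^ (j : ℕ) = S ^ (k : ℕ) * S' ^ (l : ℕ) := h
  have c : Commute S S' := S_comm
  have h1 : S ^ (((i - k : Fin 3)) : ℕ) * S' ^ (((j - l : Fin 3)) : ℕ) = 1 := by
    have e1 : ∀ a b : Fin 3, ((a - b : Fin 3) : ℕ) = ((a : ℕ) + 2 * (b : ℕ)) % 3 := by decide
    have e2 : ∀ n : ℕ, S ^ (n % 3) = S ^ n := fun n => by
      conv_rhs => rw [← Nat.mod_add_div n 3, pow_add, pow_mul, S_cube, one_pow, mul_one]
    have e3 : ∀ n : ℕ, S' ^ (n % 3) = S' ^ n := fun n => by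
      conv_rhs => rw [← Nat.mod_add_div n 3, pow_add, pow_mul, S'_cube, one_pow, mul_one]
    rw [e1, e1, e2, e3, pow_add, pow_add]
    have c1 : Commute (S ^ (2 * (k : ℕ))) (S' ^ (j : ℕ)) := c.pow_pow _ _
    calc S ^ (i : ℕ) * S ^ (2 * (k : ℕ)) * (S' ^ (j : ℕ) * S' ^ (2 * (l : ℕ)))
        = S ^ (i : ℕ) * (S ^ (2 * (k : ℕ)) * S' ^ (j : ℕ)) * S' ^ (2 * (l : ℕ)) := by
          simp only [mul_assoc]
      _ = S ^ (i : ℕ) * S' ^ (j : ℕ) * (S ^ (2 * (k : ℕ)) * S' ^ (2 * (l : ℕ))) := by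
          rw [c1.eq]; simp only [mul_assoc]
      _ = S ^ (k : ℕ) * S' ^ (l : ℕ) * (S ^ (2 * (k : ℕ)) * S' ^ (2 * (l : ℕ))) := by rw [h0]
      _ = S ^ (k : ℕ) * (S' ^ (l : ℕ) * S ^ (2 * (k : ℕ))) * S' ^ (2 * (l : ℕ)) := by
          simp only [mul_assoc]
      _ = (S ^ (k : ℕ) * S ^ (2 * (k : ℕ))) * (S' ^ (l : ℕ) * S' ^ (2 * (l : ℕ))) := by
          rw [← (c.pow_pow (2 * (k : ℕ)) (l : ℕ)).eq]; simp only [mul_assoc]
      _ = 1 := by
          rw [← pow_add, ← pow_add, show (k : ℕ) + 2 * (k : ℕ) = 3 * k by ring,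
            show (l : ℕ) + 2 * (l : ℕ) = 3 * l by ring, pow_mul, pow_mul, S_cube, S'_cube,
            one_pow, one_pow, one_mul]
  by_contra hne
  refine pow_ne (i - k) (j - l) ?_ h1
  rintro ⟨h3, h4⟩
  exact hne (Prod.ext (sub_eq_zero.1 h3) (sub_eq_zero.1 h4))

theorem factorization_card : (Nat.card Spor.M22).factorization 3 = 2 := by
  rw [Cfsg.Agent.SporadicA.MathieuRecog.card_M22]
  have h : (443520 : ℕ) = 3 ^ 2 * 49280 := by norm_num
  rw [h, Nat.factorization_mul (by norm_num) (by norm_num), Nat.Prime.factorization_pow Nat.prime_three]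
  have h2 : (49280 : ℕ).factorization 3 = 0 := Nat.factorization_eq_zero_of_not_dvd (by norm_num)
  simp [h2]

/-- **The elements of order 3 of `M22` form one conjugacy class.** -/
theorem isConj_S {a : Spor.M22} (ha : orderOf a = 3) : IsConj S a := by
  have : Fact (Nat.Prime 3) := ⟨Nat.prime_three⟩
  have hfin : Finite Spor.M22 := inferInstance
  -- a Sylow subgroup containing `S` and `S'`
  have hp1 : IsPGroup 3 (Subgroup.zpowers S) := by
    rintro ⟨x, hx⟩
    obtain ⟨k, rfl⟩ := Subgroup.mem_zpowers_iff.1 hx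
    refine ⟨1, Subtype.ext ?_⟩
    show (S ^ k) ^ 3 ^ 1 = 1
    rw [pow_one, ← zpow_natCast, ← zpow_mul, mul_comm, zpow_mul, zpow_natCast, S_cube, one_zpow]
  have hp2 : IsPGroup 3 (Subgroup.zpowers S') := by
    rintro ⟨x, hx⟩
    obtain ⟨k, rfl⟩ := Subgroup.mem_zpowers_iff.1 hx
    refine ⟨1, Subtype.ext ?_⟩
    show (S' ^ k) ^ 3 ^ 1 = 1
    rw [pow_one, ← zpow_natCast, ← zpow_mul, mul_comm, zpow_mul, zpow_natCast, S'_cube, one_zpow]
  have hn : Subgroup.zpowers S ≤ Subgroup.normalizer (Subgroup.zpowers S' : Set Spor.M22) := by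
    rw [Subgroup.zpowers_le]
    apply Subgroup.centralizer_le_normalizer
    rw [Subgroup.mem_centralizer_iff]
    intro y hy
    obtain ⟨k, rfl⟩ := Subgroup.mem_zpowers_iff.1 hy
    have c : Commute S S' := S_comm
    exact (c.symm.zpow_left k).eq
  have hp : IsPGroup 3 (Subgroup.zpowers S ⊔ Subgroup.zpowers S' : Subgroup Spor.M22) :=
    hp1.to_sup_of_normal_right' hp2 hn
  obtain ⟨R, hR⟩ := hp.exists_le_sylow
  have hSR : S ∈ (R : Subgroup Spor.M22) := hR ((le_sup_left : Subgroup.zpowers S ≤ _) (Subgroup.mem_zpowers S))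
  have hSR' : S' ∈ (R : Subgroup Spor.M22) :=
    hR ((le_sup_right : Subgroup.zpowers S' ≤ _) (Subgroup.mem_zpowers S'))
  have hcard : Nat.card R = 9 := by
    rw [R.card_eq_multiplicity, factorization_card]
    norm_num
  -- every element of `R` is `S ^ i * S' ^ j`
  have hall : ∀ y ∈ (R : Subgroup Spor.M22), ∃ p : Fin 3 × Fin 3, S ^ (p.1 : ℕ) * S' ^ (p.2 : ℕ) = y := by
    let f : Fin 3 × Fin 3 → (R : Subgroup Spor.M22) := fun p => ⟨S ^ (p.1 : ℕ) * S' ^ (p.2 : ℕ),
      mul_mem (pow_mem hSR _) (pow_mem hSR' _)⟩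
    have hf : Function.Injective f := fun p q h => pow_injective (congrArg Subtype.val h)
    have hb : Function.Bijective f := by
      rw [Nat.bijective_iff_injective_and_card]
      refine ⟨hf, ?_⟩
      rw [hcard]
      simp
    intro y hy
    obtain ⟨p, hp⟩ := hb.2 ⟨y, hy⟩
    exact ⟨p, congrArg Subtype.val hp⟩
  -- `a` is conjugate into `R`
  have hpa : IsPGroup 3 (Subgroup.zpowers a) := by
    rw [IsPGroup.iff_card]
    exact ⟨1, by rw [Nat.card_zpowers, ha, pow_one]⟩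
  obtain ⟨R', hR'⟩ := hpa.exists_le_sylow
  obtain ⟨g, hg⟩ := MulAction.exists_smul_eq Spor.M22 R' R
  have h1 : g * a * g⁻¹ ∈ (R : Subgroup Spor.M22) := by
    rw [← hg]
    exact ⟨a, hR' (Subgroup.mem_zpowers _), rfl⟩
  obtain ⟨⟨i, j⟩, hij⟩ := hall _ h1
  have h2 : ¬ (i = 0 ∧ j = 0) := by
    rintro ⟨rfl, rfl⟩
    have h3 : g * a * g⁻¹ = 1 := by rw [← hij]; simp
    have h4 : a = 1 := by
      rw [mul_inv_eq_one, mul_eq_left] at h3
      exact h3
    rw [h4, orderOf_one] at ha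
    omega
  have h3 := conj_pow' i j h2
  have h4 : IsConj a (g * a * g⁻¹) := isConj_iff.2 ⟨g, rfl⟩
  rw [← hij] at h4
  exact h3.trans h4.symm

theorem isConj_three {a b : Spor.M22} (ha : orderOf a = 3) (hb : orderOf b = 3) : IsConj a b :=
  (isConj_S ha).symm.trans (isConj_S hb)

end Cfsg.Agent.H337.M22Three
end

-- part: H455/NoNine
section
set_option linter.all false
open scoped Cfsg.Agent.FastGrp

/-!
# No elements of order 9 in `A7`, `L3(4)`, `U3(5)`, `M22`
-/

set_option autoImplicit false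

namespace Cfsg.Agent.H455.NoNine

open Cfsg

theorem alt_seven (x : alternatingGroup (Fin 7)) : orderOf x ≠ 9 := by
  intro h
  have h1 := Cfsg.Agent.H380.AltSpec.orderOf_mem_T x
  rw [h] at h1
  revert h1
  decide +kernel

theorem charP_of_card {F : Type*} [Field F] [Fintype F] {p k : ℕ} (hp : p.Prime) (h : Fintype.card F = p ^ k) :
    CharP F p := by
  have h0 : ((p : ℕ) : F) = 0 := by
    have := FiniteField.cast_card_eq_zero F
    rw [h, Nat.cast_pow] at this
    rcases Nat.eq_zero_or_pos k with rfl | hk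
    · rw [pow_zero] at this
      exact absurd this one_ne_zero
    · exact (pow_eq_zero_iff hk.ne').1 this
  obtain ⟨r, hr⟩ := CharP.exists F
  have h2 : r ∣ p := (CharP.cast_eq_zero_iff F r p).1 h0
  rcases (Nat.dvd_prime hp).1 h2 with rfl | rfl
  · exact absurd ((CharP.cast_eq_zero_iff F 1 1).2 dvd_rfl) (by rw [Nat.cast_one]; exact one_ne_zero)
  · exact hr

theorem psl_three_four {F : Type*} [Field F] [Fintype F] (hF : Fintype.card F = 4)
    (x : Matrix.ProjectiveSpecialLinearGroup (Fin 3) F) : orderOf x ≠ 9 := by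
  intro h
  have : Fact (Nat.Prime 2) := ⟨Nat.prime_two⟩
  have : CharP F 2 := charP_of_card (k := 2) Nat.prime_two (by rw [hF]; norm_num)
  have h1 := Cfsg.Agent.S2476.result (F := F) 2
  have h2 : (9 : ℕ) ∈ Set.range (orderOf : Matrix.ProjectiveSpecialLinearGroup (Fin 3) F → ℕ) := ⟨x, h⟩
  rw [h1, hF] at h2
  revert h2
  simp only [Set.mem_setOf_eq]
  norm_num

theorem psu_three_five {F : Type*} [Field F] [Fintype F] (hF : Fintype.card F = 5 ^ 2)
    (x : Cfsg.PSU 3 F 5) : orderOf x ≠ 9 := by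
  intro h
  have : Fact (Nat.Prime 5) := ⟨by norm_num⟩
  have : CharP F 5 := charP_of_card (k := 2) (by norm_num) hF
  have h1 := Cfsg.Agent.S2366.result (F := F) 5 (by norm_num) 5 hF
  have h2 : (9 : ℕ) ∈ Set.range (orderOf : Cfsg.PSU 3 F 5 → ℕ) := ⟨x, h⟩
  rw [h1] at h2
  revert h2
  simp only [Set.mem_union, Set.mem_setOf_eq]
  norm_num

/-- Sylow `3`-subgroups of order 9 which are not cyclic -/
theorem no_nine {X : Type*} [Group X] [Finite X] (hv : (Nat.card X).factorization 3 = 2) (a b : X)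
    (hab : a * b = b * a) (ha : a ^ 3 = 1) (hb : b ^ 3 = 1)
    (hinj : Function.Injective fun p : Fin 3 × Fin 3 => a ^ (p.1 : ℕ) * b ^ (p.2 : ℕ)) (x : X) : orderOf x ≠ 9 := by
  intro hx
  have : Fact (Nat.Prime 3) := ⟨Nat.prime_three⟩
  have hp1 : IsPGroup 3 (Subgroup.zpowers a) := by
    rintro ⟨x, hx⟩
    obtain ⟨k, rfl⟩ := Subgroup.mem_zpowers_iff.1 hx
    refine ⟨1, Subtype.ext ?_⟩
    show (a ^ k) ^ 3 ^ 1 = 1
    rw [pow_one, ← zpow_natCast, ← zpow_mul, mul_comm, zpow_mul, zpow_natCast, ha, one_zpow]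
  have hp2 : IsPGroup 3 (Subgroup.zpowers b) := by
    rintro ⟨x, hx⟩
    obtain ⟨k, rfl⟩ := Subgroup.mem_zpowers_iff.1 hx
    refine ⟨1, Subtype.ext ?_⟩
    show (b ^ k) ^ 3 ^ 1 = 1
    rw [pow_one, ← zpow_natCast, ← zpow_mul, mul_comm, zpow_mul, zpow_natCast, hb, one_zpow]
  have hn : Subgroup.zpowers a ≤ Subgroup.normalizer (Subgroup.zpowers b : Set X) := by
    rw [Subgroup.zpowers_le]
    apply Subgroup.centralizer_le_normalizer
    rw [Subgroup.mem_centralizer_iff]
    intro y hy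
    obtain ⟨k, rfl⟩ := Subgroup.mem_zpowers_iff.1 hy
    have c : Commute a b := hab
    exact (c.symm.zpow_left k).eq
  have hp : IsPGroup 3 (Subgroup.zpowers a ⊔ Subgroup.zpowers b : Subgroup X) :=
    hp1.to_sup_of_normal_right' hp2 hn
  obtain ⟨R, hR⟩ := hp.exists_le_sylow
  have haR : a ∈ (R : Subgroup X) := hR ((le_sup_left : Subgroup.zpowers a ≤ _) (Subgroup.mem_zpowers a))
  have hbR : b ∈ (R : Subgroup X) := hR ((le_sup_right : Subgroup.zpowers b ≤ _) (Subgroup.mem_zpowers b))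
  have hcard : Nat.card R = 9 := by
    rw [R.card_eq_multiplicity, hv]
    norm_num
  have hall : ∀ y ∈ (R : Subgroup X), ∃ p : Fin 3 × Fin 3, a ^ (p.1 : ℕ) * b ^ (p.2 : ℕ) = y := by
    let f : Fin 3 × Fin 3 → (R : Subgroup X) := fun p => ⟨a ^ (p.1 : ℕ) * b ^ (p.2 : ℕ),
      mul_mem (pow_mem haR _) (pow_mem hbR _)⟩
    have hf : Function.Injective f := fun p q h => hinj (congrArg Subtype.val h)
    have hb : Function.Bijective f := by
      rw [Nat.bijective_iff_injective_and_card]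
      refine ⟨hf, ?_⟩
      rw [hcard]
      simp
    intro y hy
    obtain ⟨p, hp⟩ := hb.2 ⟨y, hy⟩
    exact ⟨p, congrArg Subtype.val hp⟩
  have hpx : IsPGroup 3 (Subgroup.zpowers x) := by
    rw [IsPGroup.iff_card]
    exact ⟨2, by rw [Nat.card_zpowers, hx]; norm_num⟩
  obtain ⟨R', hR'⟩ := hpx.exists_le_sylow
  obtain ⟨g, hg⟩ := MulAction.exists_smul_eq X R' R
  have h1 : g * x * g⁻¹ ∈ (R : Subgroup X) := by
    rw [← hg]
    exact ⟨x, hR' (Subgroup.mem_zpowers _), rfl⟩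
  obtain ⟨⟨i, j⟩, hij⟩ := hall _ h1
  have h2 : (g * x * g⁻¹) ^ 3 = 1 := by
    rw [← hij]
    have c : Commute a b := hab
    rw [(c.pow_pow _ _).mul_pow, ← pow_mul, ← pow_mul, mul_comm _ 3, mul_comm _ 3, pow_mul, pow_mul, ha, hb,
      one_pow, one_pow, one_mul]
  rw [conj_pow] at h2
  have h3 : x ^ 3 = 1 := by
    have := congrArg (fun z => g⁻¹ * z * g) h2
    simpa [mul_assoc] using this
  have h4 := orderOf_dvd_of_pow_eq_one h3
  rw [hx] at h4
  omega

theorem m22 (x : Spor.M22) : orderOf x ≠ 9 :=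
  no_nine Cfsg.Agent.H337.M22Three.factorization_card _ _ Cfsg.Agent.H337.M22Three.S_comm
    Cfsg.Agent.H337.M22Three.S_cube Cfsg.Agent.H337.M22Three.S'_cube Cfsg.Agent.H337.M22Three.pow_injective x

end Cfsg.Agent.H455.NoNine
end
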