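import Mathlib
import Cfsg.Agent.SporRec.SuzPerm
import Cfsg.Agent.Fischer.Fi22Order
import Cfsg.Agent.TwoESix.FiInst
import Cfsg.Agent.HN.AutHS
import Cfsg.Agent.CpAutLy.Row
import Cfsg.Agent.Prune
set_option linter.all false
prune_inst 0x7f00000000000000000000000000000000000000000000000000000000000000000000000000000000000000000000000000000000000000000000000000000000000000000000000000000000000000003fffffffffffffffffffffffffffbeffbdffffffff
open scoped Cfsg.Agent.FastGrp

-- part: H455/OrbitLen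
section
/-!
# Lower bounds for element orders from orbits (helper455)
-/

set_option autoImplicit false

namespace Cfsg.Agent.H455.OrbitLen

/-- `x, f x, …, f^[n-1] x` are different from `p` -/
def run (f : ℕ → ℕ) (p : ℕ) : ℕ → ℕ → Bool
  | 0, _ => true
  | n + 1, x => !(Nat.beq x p) && run f p n (f x)

theorem run_spec (f : ℕ → ℕ) (p : ℕ) : ∀ (n x : ℕ), run f p n x = true → ∀ i < n, f^[i] x ≠ p
  | 0, _, _, i, hi => absurd hi (Nat.not_lt_zero i)
  | n + 1, x, h, i, hi => by
    rw [run, Bool.and_eq_true] at h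
    cases i with
    | zero =>
      intro hx
      rw [Function.iterate_zero, id] at hx
      rw [hx] at h
      simp at h
    | succ i =>
      rw [Function.iterate_succ_apply]
      exact run_spec f p n (f x) h.2 i (by omega)

theorem lt_orderOf {G X : Type*} [Group G] [Finite G] (φ : G →* Equiv.Perm X) (g : G) (v : X → ℕ) (f : ℕ → ℕ)
    (hf : ∀ x, v (φ g x) = f (v x)) (x : X) {N : ℕ} (h : run f (v x) N (f (v x)) = true) : N < orderOf g := by
  by_contra hlt
  push Not at hlt
  have hpos := orderOf_pos g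
  have hit : ∀ i : ℕ, v ((φ g ^ i) x) = f^[i] (v x) := by
    intro i
    induction i with
    | zero => rfl
    | succ i ih =>
      rw [pow_succ', Equiv.Perm.mul_apply, hf, ih, ← Function.iterate_succ_apply' f]
  have h1 := run_spec f (v x) N _ h (orderOf g - 1) (by omega)
  apply h1
  rw [← Function.iterate_succ_apply, Nat.succ_eq_add_one, Nat.sub_add_cancel hpos, ← hit, ← map_pow,
    pow_orderOf_eq_one, map_one]
  rfl

end Cfsg.Agent.H455.OrbitLen
end

-- part: H455/ElemS
section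
/-!
# Elements of large order in `Suz`, `Fi22`, `²E₆(2)`, `HS`, `McL` (helper455)
-/

set_option autoImplicit false

namespace Cfsg.Agent.H455.ElemS

open Cfsg Cfsg.Agent.H455.OrbitLen

universe u

section Suz

open Cfsg.Spor Cfsg.Agent.SporRec.SuzPerm

/-- the element `b c d f g` -/
noncomputable def ws : Spor.Suz :=
  (([.b, .c, .d, .f, .g] : List Suz.Gen).map fun x => (PresentedGroup.of x : Spor.Suz)).prod

theorem suz_lt' [Finite Spor.Suz] : 20 < orderOf ws := by
  refine lt_orderOf φ ws (fun i : Fin 1782 => (i : ℕ)) (tr [.b, .c, .d, .f, .g]) ?_ ⟨0, by norm_num⟩ ?_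
  · intro x
    rw [← prod_val]
    congr 1
  · decide +kernel

theorem suz_lt {X : Type u} [Group X] [Finite X] (h : Spor.IsoSuz X) : ∃ x : X, 20 < orderOf x := by
  obtain ⟨e⟩ := h
  have : Finite Spor.Suz := Finite.of_equiv X e.toEquiv
  refine ⟨e.symm ws, ?_⟩
  rw [MulEquiv.orderOf_eq]
  exact suz_lt'

end Suz

section Fi

open Cfsg.Spor Cfsg.Spor.Fi22 Cfsg.Agent.Lib.PermNet Cfsg.Agent.Lib.PermNetOrbit
open Cfsg.Agent.Fischer.Fi22PtsRep

theorem fi_lt' [Finite Spor.Fi22] : 24 < orderOf (wd [.a, .b, .c, .d, .f, .g, .i]) :=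
  lt_orderOf φ (wd [.a, .b, .c, .d, .f, .g, .i]) (fun i : ℕ => i)
    (ptWord (nw [.a, .b, .c, .d, .f, .g, .i])) (fun x => φ_wd_apply _ x) 80 (by decide +kernel)

theorem fi_lt {X : Type u} [Group X] [Finite X] (h : Spor.IsoFi22 X) : ∃ x : X, 24 < orderOf x := by
  obtain ⟨e⟩ := h
  have : Finite Spor.Fi22 := Finite.of_equiv X e.toEquiv
  refine ⟨e.symm (wd [.a, .b, .c, .d, .f, .g, .i]), ?_⟩
  rw [MulEquiv.orderOf_eq]
  exact fi_lt'

theorem te_lt {X : Type u} [Group X] [Finite X] {K : Type*} [Field K] [Fintype K] (hK : Fintype.card K = 4)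
    (e : X ≃* ↥(Lie.twistedE6 K 2)) : ∃ x : X, 24 < orderOf x := by
  obtain ⟨t, r, f, -, -, -, ht1, -, hf⟩ := Cfsg.Agent.TwoESix.FiInst.exists_fiHom K hK
  have hs := Cfsg.Agent.Fischer.Fi22Order.isSimple
  have hfin : Finite Spor.Fi22 := Cfsg.Agent.Fischer.Fi22Order.upper.1
  have hker : f.ker = ⊥ := by
    rcases hs.eq_bot_or_eq_top_of_normal f.ker inferInstance with h | h
    · exact h
    · exfalso
      apply ht1 (Cfsg.Agent.TwoESix.FiInst.nd .a)
      rw [← hf, ← MonoidHom.mem_ker, h]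
      exact Subgroup.mem_top _
  have hinj : Function.Injective f := (MonoidHom.ker_eq_bot_iff f).1 hker
  refine ⟨e.symm (f (wd [.a, .b, .c, .d, .f, .g, .i])), ?_⟩
  rw [MulEquiv.orderOf_eq, orderOf_injective f hinj]
  exact fi_lt'

end Fi

section HS

open Cfsg.Agent.HN.HS100 Cfsg.Agent.SporadicA.PermTab

theorem hs_lt {X : Type u} [Group X] [Finite X] (h : Spor.IsoHS X) : ∃ x : X, 18 < orderOf x := by
  obtain ⟨e⟩ := h
  obtain ⟨⟨e'⟩, -⟩ := Cfsg.Agent.HN.AutHS.nonempty_Q
  obtain ⟨x, hx, hx'⟩ := inX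
  obtain ⟨y, hy, hy'⟩ := inY
  obtain ⟨w, hw, hw'⟩ := inW
  let g : Q := ⟨x * y * y * w * y, Q.mul_mem (Q.mul_mem (Q.mul_mem (Q.mul_mem hx hy) hy) hw) hy⟩
  refine ⟨e.symm (e' g), ?_⟩
  rw [MulEquiv.orderOf_eq, MulEquiv.orderOf_eq]
  refine lt_orderOf Q.subtype g (fun i : Fin 100 => (i : ℕ))
    (fun i => lk tX (lk tY (lk tY (lk tW (lk tY i))))) ?_ (0 : Fin 100) ?_
  · intro i
    change (((x * y * y * w * y) i : Fin 100) : ℕ) = _
    rw [Equiv.Perm.mul_apply, Equiv.Perm.mul_apply, Equiv.Perm.mul_apply, Equiv.Perm.mul_apply, hx', hy', hy', hw',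
      hy']
  · decide +kernel

end HS

section McL

theorem mcl_thirty {X : Type u} [Group X] (h : Spor.IsoMcL X) : ∃ x : X, orderOf x = 30 := by
  obtain ⟨z, u, f, hz, hu, hf, hzu, hzf, huf, -⟩ := Cfsg.Agent.CpAutLy.McLElt.exists_data h
  refine ⟨z * u * f, ?_⟩
  have h1 : orderOf (z * u) = 6 := by
    rw [(show Commute z u from hzu).orderOf_mul_eq_mul_orderOf_of_coprime (by rw [hz, hu]; norm_num), hz, hu]
  have h2 : Commute (z * u) f := Commute.mul_left hzf huf
  rw [h2.orderOf_mul_eq_mul_orderOf_of_coprime (by rw [h1, hf]; norm_num), h1, hf]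

end McL

end Cfsg.Agent.H455.ElemS
end

private theorem dce_7aacb4365137 : _root_.True := by
  try have : _root_.True := by simp only [_root_.Cfsg.Agent.H455.OrbitLen.run.eq_1]
  try have : _root_.True := by simp only [_root_.Cfsg.Agent.H455.OrbitLen.run.eq_def]
  try have : _root_.True := by simp only [_root_.Cfsg.Agent.H455.OrbitLen.run.eq_2]
  exact _root_.True.intro
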