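import Mathlib
import Cfsg.Agent.FastGrp
import Cfsg.Agent.Prune
set_option linter.all false
prune_inst 0x7f00000000000000000000000000000000000000000000000000000000000000000000000000000000000000000000000000000000000000000000000000000000000000000000000000000000000000003fffffffffffffffffffffffffffbeffbdffffffff
open scoped Cfsg.Agent.FastGrp

/-!
# Groups of odd order with at most eight conjugacy classes (helper455)

* `num3` : the numerical solutions of the class equation;
* `card_mem` : the order of such a group is in a list;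
-/

set_option autoImplicit false

namespace Cfsg.Agent.H455.FewOdd

/-! ### The pairing of the classes -/

theorem exists_half {α : Type*} [DecidableEq α] (ι : α → α) (hι : ∀ a, ι (ι a) = a) (f : α → ℕ)
    (hf : ∀ a, f (ι a) = f a) : ∀ (n : ℕ) (X : Finset α), X.card = n → (∀ a ∈ X, ι a ∈ X) →
    (∀ a ∈ X, ι a ≠ a) →
    ∃ l : List α, 2 * l.length = X.card ∧ (∀ a ∈ l, a ∈ X) ∧ ∑ a ∈ X, f a = 2 * (l.map f).sum := by
  intro n
  induction n using Nat.strong_induction_on with
  | _ n ih =>
    intro X hX h1 h2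
    rcases X.eq_empty_or_nonempty with rfl | ⟨a, ha⟩
    · exact ⟨[], by simp, by simp, by simp⟩
    · have hia := h1 a ha
      have hne := h2 a ha
      have hi' : ι a ∈ X.erase a := Finset.mem_erase.2 ⟨hne, hia⟩
      set Y := (X.erase a).erase (ι a) with hY
      have hc1 := Finset.card_erase_of_mem ha
      have hc2 : Y.card = (X.erase a).card - 1 := Finset.card_erase_of_mem hi'
      have hpos : 1 ≤ (X.erase a).card := Finset.card_pos.2 ⟨_, hi'⟩
      have hpos' : 1 ≤ X.card := Finset.card_pos.2 ⟨_, ha⟩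
      have hYm : ∀ b, b ∈ Y ↔ b ≠ ι a ∧ b ≠ a ∧ b ∈ X := by
        intro b
        rw [hY, Finset.mem_erase, Finset.mem_erase]
      obtain ⟨l, hl1, hl2, hl3⟩ := ih Y.card (by omega) Y rfl (fun b hb => by
        obtain ⟨hb1, hb2, hb3⟩ := (hYm b).1 hb
        refine (hYm _).2 ⟨fun h => hb2 ?_, fun h => hb1 ?_, h1 b hb3⟩
        · rw [← hι b, h, hι]
        · rw [← h, hι]) (fun b hb => h2 b ((hYm b).1 hb).2.2)
      refine ⟨a :: l, ?_, ?_, ?_⟩
      · rw [List.length_cons]
        omega
      · intro b hb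
        rcases List.mem_cons.1 hb with rfl | hb
        · exact ha
        · exact ((hYm b).1 (hl2 b hb)).2.2
      · rw [List.map_cons, List.sum_cons]
        have e1 := Finset.add_sum_erase X f ha
        have e2 := Finset.add_sum_erase (X.erase a) f hi'
        rw [hf] at e2
        rw [← e1, ← e2, hl3]
        ring

/-! ### The numbers -/

/-- the orders other than `35` and `171` -/
def L7 : List ℕ := [7, 15, 27, 39, 55, 63, 147, 315, 903]

theorem num1 {n d u : ℕ} (h1 : d * u = n) (h : 1 + 2 * d = n) : n = 3 := by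
  have h2 : d ∣ n := ⟨u, h1.symm⟩
  have h3 : d ∣ 1 := by
    have h4 : d ∣ 2 * d := ⟨2, by ring⟩
    exact (Nat.dvd_add_left h4).1 (h ▸ h2)
  have := Nat.dvd_one.1 h3
  omega

theorem dvd_of_eq {n d u a b k : ℕ} (hk : k * n = a + b * d) (hd : d * u = n) : d ∣ a := by
  have h1 : d ∣ k * n := ⟨u * k, by rw [← hd]; ring⟩
  rw [hk] at h1
  exact (Nat.dvd_add_left ⟨b, by ring⟩).1 h1

theorem num2' {n d e u v : ℕ} (h1 : d * u = n) (h2 : e * v = n) (hu : Odd u)
    (hu3 : 3 ≤ u) (hv3 : 3 ≤ v) (huv : u ≤ v) (h : 1 + 2 * d + 2 * e = n) : n = 5 ∨ n = 9 ∨ n = 21 := by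
  have hd : 0 < d := by
    rcases Nat.eq_zero_or_pos d with rfl | h; · rw [zero_mul] at h1; omega
    exact h
  have he : 0 < e := by
    rcases Nat.eq_zero_or_pos e with rfl | h; · rw [zero_mul] at h2; omega
    exact h
  have hed : e ≤ d := by
    by_contra hc
    push Not at hc
    have : d * u < e * v := Nat.mul_lt_mul_of_lt_of_le hc huv (by omega)
    omega
  have hu5 : u ≤ 5 := by
    by_contra hc
    have : d * 6 ≤ d * u := Nat.mul_le_mul_left _ (by omega)
    omega
  obtain ⟨u, rfl⟩ := hu
  have : u = 1 ∨ u = 2 := by omega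
  rcases this with rfl | rfl
  · -- `n = 3 d`
    have hk : 1 * n = 3 + 6 * e := by omega
    have h3 := dvd_of_eq hk h2
    have h4 := Nat.le_of_dvd (by norm_num) h3
    interval_cases e
    · omega
    · omega
    · omega
  · have hk : 3 * n = 5 + 10 * e := by (clear * - h h1; solve | lia | omega)
    have h3 := dvd_of_eq hk h2
    have h4 := Nat.le_of_dvd (by norm_num) h3
    interval_cases e <;> (clear * - h1 h h2 huv; (solve | lia | omega))

theorem num2 {n d e u v : ℕ} (h1 : d * u = n) (h2 : e * v = n) (hu : Odd u) (hv : Odd v)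
    (hu3 : 3 ≤ u) (hv3 : 3 ≤ v) (h : 1 + 2 * d + 2 * e = n) : n = 5 ∨ n = 9 ∨ n = 21 := by
  rcases le_total u v with huv | huv
  · exact num2' h1 h2 hu hu3 hv3 huv h
  · exact num2' h2 h1 hv hv3 hu3 huv (by omega)

theorem num3' {n d e f u v w : ℕ} (h1 : d * u = n) (h2 : e * v = n) (h3 : f * w = n)
    (hu : Odd u) (hv : Odd v) (hu3 : 3 ≤ u) (huv : u ≤ v) (hvw : v ≤ w)
    (h : 1 + 2 * d + 2 * e + 2 * f = n) : n ∈ L7 ∨ (n = 35 ∧ u = 5) ∨ (n = 171 ∧ u = 3) := by
  have hd : 0 < d := by
    rcases Nat.eq_zero_or_pos d with rfl | h; · rw [zero_mul] at h1; omega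
    exact h
  have he : 0 < e := by
    rcases Nat.eq_zero_or_pos e with rfl | h; · rw [zero_mul] at h2; omega
    exact h
  have hf : 0 < f := by
    rcases Nat.eq_zero_or_pos f with rfl | h; · rw [zero_mul] at h3; omega
    exact h
  have hed : e ≤ d := by
    by_contra hc
    push Not at hc
    have : d * u < e * v := Nat.mul_lt_mul_of_lt_of_le hc huv (by omega)
    omega
  have hfe : f ≤ e := by
    by_contra hc
    push Not at hc
    have : e * v < f * w := Nat.mul_lt_mul_of_lt_of_le hc hvw (by omega)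
    omega
  have hu7 : u ≤ 7 := by
    by_contra hc
    have : d * 8 ≤ d * u := Nat.mul_le_mul_left _ (by omega)
    omega
  obtain ⟨u, rfl⟩ := hu
  obtain ⟨v, rfl⟩ := hv
  have : u = 1 ∨ u = 2 ∨ u = 3 := by omega
  unfold L7
  rcases this with rfl | rfl | rfl
  · have hv1 : 1 ≤ v := by omega
    have hv15 : v ≤ 7 := by
      by_contra hc
      have : e * 16 ≤ e * (2 * v + 1) := Nat.mul_le_mul_left _ (by omega)
      omega
    interval_cases v
    · omega
    · (clear * - h h1 h2; solve | lia | omega)
    · -- `v = 7`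
      have hk : 1 * n = 21 + 42 * f := by (clear * - h h1 h2; solve | lia | omega)
      have h5 := dvd_of_eq hk h3
      have h4 := Nat.le_of_dvd (by norm_num) h5
      interval_cases f <;> first | (exfalso; revert h5; decide) | (simp only [List.mem_cons]; (solve | lia | omega))
    · have hk : 1 * n = 9 + 18 * f := by (clear * - h h1 h2; solve | lia | omega)
      have h5 := dvd_of_eq hk h3
      have h4 := Nat.le_of_dvd (by norm_num) h5
      interval_cases f <;> first | (exfalso; revert h5; decide) | (simp only [List.mem_cons]; (solve | lia | omega))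
    · have hk : 5 * n = 33 + 66 * f := by (clear * - h h1 h2; solve | lia | omega)
      have h5 := dvd_of_eq hk h3
      have h4 := Nat.le_of_dvd (by norm_num) h5
      interval_cases f <;> first | (exfalso; revert h5; decide) | (simp only [List.mem_cons]; (solve | lia | omega))
    · have hk : 7 * n = 39 + 78 * f := by (clear * - h h1 h2; solve | lia | omega)
      have h5 := dvd_of_eq hk h3
      have h4 := Nat.le_of_dvd (by norm_num) h5
      interval_cases f <;> first | (exfalso; revert h5; decide) | (simp only [List.mem_cons]; (solve | lia | omega))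
    · have hk : 1 * n = 5 + 10 * f := by (clear * - h h1 h2; solve | lia | omega)
      have h5 := dvd_of_eq hk h3
      have h4 := Nat.le_of_dvd (by norm_num) h5
      interval_cases f <;> first | (exfalso; revert h5; decide) | (simp only [List.mem_cons]; (solve | lia | omega))
  · have hv1 : 2 ≤ v := by omega
    have hv7 : v ≤ 4 := by
      by_contra hc
      have : e * 11 ≤ e * (2 * v + 1) := Nat.mul_le_mul_left _ (by omega)
      omega
    interval_cases v
    · have hk : 1 * n = 5 + 10 * f := by (clear * - h h1 h2; solve | lia | omega)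
      have h5 := dvd_of_eq hk h3
      have h4 := Nat.le_of_dvd (by norm_num) h5
      interval_cases f <;> first | (exfalso; revert h5; decide) | (simp only [List.mem_cons]; (clear * - h1 h2 h; (solve | lia | omega)))
    · have hk : 11 * n = 35 + 70 * f := by (solve | lia | omega)
      have h5 := dvd_of_eq hk h3
      have h4 := Nat.le_of_dvd (by norm_num) h5
      interval_cases f <;> first | (exfalso; revert h5; decide) | (simp only [List.mem_cons]; (solve | lia | omega))
    · (solve | lia | omega)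
  · simp only [List.mem_cons]
    (solve | lia | omega)

theorem num3 {n d e f u v w : ℕ} (h1 : d * u = n) (h2 : e * v = n) (h3 : f * w = n)
    (hu : Odd u) (hv : Odd v) (hw : Odd w) (hu3 : 3 ≤ u) (hv3 : 3 ≤ v) (hw3 : 3 ≤ w)
    (h : 1 + 2 * d + 2 * e + 2 * f = n) : n ∈ L7 ∨ (n = 35 ∧ (u = 5 ∨ v = 5 ∨ w = 5)) ∨
      (n = 171 ∧ (u = 3 ∨ v = 3 ∨ w = 3)) := by
  rcases le_total u v with huv | huv <;> rcases le_total v w with hvw | hvw <;>
    rcases le_total u w with huw | huw
  · rcases num3' h1 h2 h3 hu hv hu3 huv hvw h with h | ⟨h, h'⟩ | ⟨h, h'⟩ <;> itauto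
  · rcases num3' h1 h2 h3 hu hv hu3 huv hvw h with h | ⟨h, h'⟩ | ⟨h, h'⟩ <;> itauto
  · rcases num3' h1 h3 h2 hu hw hu3 huw hvw (by omega) with h | ⟨h, h'⟩ | ⟨h, h'⟩ <;> itauto
  · rcases num3' h3 h1 h2 hw hu hw3 huw huv (by omega) with h | ⟨h, h'⟩ | ⟨h, h'⟩ <;> itauto
  · rcases num3' h2 h1 h3 hv hu hv3 huv huw (by omega) with h | ⟨h, h'⟩ | ⟨h, h'⟩ <;> itauto
  · rcases num3' h2 h3 h1 hv hw hv3 hvw huw (by omega) with h | ⟨h, h'⟩ | ⟨h, h'⟩ <;> itauto
  · rcases num3' h3 h2 h1 hw hv hw3 hvw huv (by omega) with h | ⟨h, h'⟩ | ⟨h, h'⟩ <;> (solve | simp only [*, true_or, or_true, and_self, true_and, and_true, not_false_eq_true] | itauto)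
  · rcases num3' h3 h2 h1 hw hv hw3 hvw huv (by omega) with h | ⟨h, h'⟩ | ⟨h, h'⟩ <;> itauto

/-! ### Classes -/

section group

variable {K : Type*} [Group K]

theorem odd_of_mem [Finite K] (hodd : Odd (Nat.card K)) {g : K} (h : g * g = 1) : g = 1 := by
  have h1 : orderOf g ∣ 2 := orderOf_dvd_of_pow_eq_one (by rw [pow_two, h])
  have h2 : orderOf g ∣ Nat.card K := orderOf_dvd_natCard g
  rcases (Nat.dvd_prime Nat.prime_two).1 h1 with h3 | h3
  · exact orderOf_eq_one_iff.1 h3
  · exfalso
    rw [h3] at h2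
    rw [Nat.odd_iff] at hodd
    omega

/-- in a group of odd order only the identity is conjugate to its inverse -/
theorem eq_one_of_isConj_inv [Finite K] (hodd : Odd (Nat.card K)) {g : K} (h : IsConj g g⁻¹) :
    g = 1 := by
  obtain ⟨c, hc⟩ := isConj_iff.1 h
  have h1 : Commute (c ^ 2) g := by
    show c ^ 2 * g = g * c ^ 2
    have h2 : c * g⁻¹ * c⁻¹ = g := by
      have := congrArg (·⁻¹) hc
      simpa only [mul_assoc, _root_.mul_inv_rev, _root_.inv_inv] using this
    calc c ^ 2 * g = c * (c * g * c⁻¹) * c := by rw [pow_two]; group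
      _ = c * g⁻¹ * c⁻¹ * (c * c) := by rw [hc]; group
      _ = g * c ^ 2 := by rw [h2, pow_two]
  obtain ⟨k, hk⟩ := hodd
  have h2 : c = (c ^ 2) ^ (k + 1) := by
    rw [← pow_mul]
    have h3 : c ^ Nat.card K = 1 := pow_card_eq_one'
    rw [hk] at h3
    rw [show 2 * (k + 1) = (2 * k + 1) + 1 by ring, pow_succ, h3, one_mul]
  have h3 : Commute c g := by
    rw [h2]
    exact h1.pow_left _
  have h4 : c * g * c⁻¹ = g := by rw [h3.eq]; group
  rw [h4] at hc
  refine odd_of_mem ⟨k, hk⟩ ?_
  nth_rewrite 2 [hc]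
  exact mul_inv_cancel g

/-- the inverse class -/
def invC : ConjClasses K → ConjClasses K :=
  Quotient.map (fun g => g⁻¹) fun a b h => by
    obtain ⟨c, hc⟩ := isConj_iff.1 (show IsConj a b from h)
    exact isConj_iff.2 ⟨c, by rw [← hc]; group⟩

theorem invC_mk (g : K) : invC (ConjClasses.mk g) = ConjClasses.mk g⁻¹ := rfl

theorem ncard_mul [Finite K] (g : K) :
    (ConjClasses.mk g).carrier.ncard * Nat.card (Subgroup.centralizer ({g} : Set K)) = Nat.card K := by
  have h1 : (Subgroup.centralizer ({g} : Set K)).index = (ConjClasses.mk g).carrier.ncard := by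
    have h1 : (Subgroup.centralizer ({g} : Set K)).index =
        (MulAction.stabilizer (ConjAct K) g).index := by
      rw [Subgroup.centralizer_eq_comap_stabilizer]
      exact Subgroup.index_comap_of_surjective _ (ConjAct.toConjAct (G := K)).surjective
    rw [h1, MulAction.index_stabilizer, ConjAct.orbit_eq_carrier_conjClasses]
  rw [← h1, mul_comm]
  exact Subgroup.card_mul_index _

theorem ncard_inv (c : ConjClasses K) : (invC c).carrier.ncard = c.carrier.ncard := by
  obtain ⟨g, rfl⟩ := ConjClasses.exists_rep c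
  rw [invC_mk]
  have h : (ConjClasses.mk g⁻¹).carrier = (Equiv.inv K) '' (ConjClasses.mk g).carrier := by
    ext h
    rw [ConjClasses.mem_carrier_iff_mk_eq, ConjClasses.mk_eq_mk_iff_isConj]
    constructor
    · intro h1
      refine ⟨h⁻¹, ?_, inv_inv h⟩
      rw [ConjClasses.mem_carrier_iff_mk_eq, ConjClasses.mk_eq_mk_iff_isConj]
      obtain ⟨c, hc⟩ := isConj_iff.1 h1
      exact isConj_iff.2 ⟨c, by
        have := congrArg (·⁻¹) hc
        simpa only [mul_assoc, _root_.mul_inv_rev, _root_.inv_inv] using this⟩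
    · rintro ⟨k, hk, rfl⟩
      rw [ConjClasses.mem_carrier_iff_mk_eq, ConjClasses.mk_eq_mk_iff_isConj] at hk
      obtain ⟨c, hc⟩ := isConj_iff.1 hk
      exact isConj_iff.2 ⟨c, by
        have := congrArg (·⁻¹) hc
        simpa only [mul_assoc, _root_.Equiv.inv_apply, _root_.mul_inv_rev, _root_.inv_inv] using this⟩
  rw [h, Set.ncard_image_of_injective _ (Equiv.injective _)]

/-- the class equation of a group of odd order -/
theorem class_eq [Finite K] (hodd : Odd (Nat.card K)) :
    ∃ l : List (ConjClasses K), 2 * l.length + 1 = Nat.card (ConjClasses K) ∧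
      (∀ c ∈ l, ∃ g : K, g ≠ 1 ∧ ConjClasses.mk g = c) ∧
      1 + 2 * (l.map fun c => c.carrier.ncard).sum = Nat.card K := by
  classical
  have : Finite (ConjClasses K) := Quotient.finite _
  have := Fintype.ofFinite (ConjClasses K)
  let X : Finset (ConjClasses K) := Finset.univ.erase (ConjClasses.mk 1)
  have hι : ∀ c : ConjClasses K, invC (invC c) = c := by
    intro c
    obtain ⟨g, rfl⟩ := ConjClasses.exists_rep c
    rw [invC_mk, invC_mk, inv_inv]
  obtain ⟨l, h1, h2, h3⟩ := exists_half (invC (K := K)) hι (fun c => c.carrier.ncard) ncard_inv _ X rfl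
    (fun c hc => by
      refine Finset.mem_erase.2 ⟨fun h => (Finset.mem_erase.1 hc).1 ?_, Finset.mem_univ _⟩
      rw [← hι c, h, invC_mk, inv_one]) (fun c hc h => by
      obtain ⟨g, rfl⟩ := ConjClasses.exists_rep c
      apply (Finset.mem_erase.1 hc).1
      rw [invC_mk, ConjClasses.mk_eq_mk_iff_isConj] at h
      rw [eq_one_of_isConj_inv hodd h.symm])
  refine ⟨l, ?_, ?_, ?_⟩
  · rw [h1, Finset.card_erase_of_mem (Finset.mem_univ _), Finset.card_univ, Nat.card_eq_fintype_card]
    have : 0 < Fintype.card (ConjClasses K) := Fintype.card_pos_iff.2 ⟨ConjClasses.mk 1⟩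
    omega
  · intro c hc
    obtain ⟨g, rfl⟩ := ConjClasses.exists_rep c
    refine ⟨g, ?_, rfl⟩
    rintro rfl
    exact (Finset.mem_erase.1 (h2 _ hc)).1 rfl
  · rw [← h3, ← Group.sum_card_conj_classes_eq_card, finsum_eq_sum_of_fintype]
    rw [← Finset.add_sum_erase Finset.univ (fun c : ConjClasses K => c.carrier.ncard)
      (Finset.mem_univ (ConjClasses.mk 1))]
    congr 1
    have h4 : (ConjClasses.mk (1 : K)).carrier = {1} := by
      ext h
      rw [ConjClasses.mem_carrier_iff_mk_eq, ConjClasses.mk_eq_mk_iff_isConj, isConj_one_left]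
      exact Iff.rfl
    rw [h4, Set.ncard_singleton]

/-- the order of a centralizer of a nontrivial element -/
theorem cent_facts [Finite K] (hodd : Odd (Nat.card K)) {g : K} (hg : g ≠ 1) :
    Odd (Nat.card (Subgroup.centralizer ({g} : Set K))) ∧
      3 ≤ Nat.card (Subgroup.centralizer ({g} : Set K)) := by
  have h1 : Odd (Nat.card (Subgroup.centralizer ({g} : Set K))) :=
    hodd.of_dvd_nat (Subgroup.card_subgroup_dvd_card _)
  refine ⟨h1, ?_⟩
  have h2 : Nat.card (Subgroup.centralizer ({g} : Set K)) ≠ 1 := by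
    intro h
    apply hg
    have h3 : g ∈ Subgroup.centralizer ({g} : Set K) := Subgroup.mem_centralizer_singleton_iff.2 rfl
    have h4 := (Subgroup.card_eq_one.1 h)
    rw [h4] at h3
    exact Subgroup.mem_bot.1 h3
  obtain ⟨k, hk⟩ := h1
  omega

/-- no element of a group of order 35 has a centralizer of order 5 -/
theorem no_35 [Finite K] (hK : Nat.card K = 35) {g : K}
    (hg : Nat.card (Subgroup.centralizer ({g} : Set K)) = 5) : False := by
  have h5 : Fact (Nat.Prime 5) := ⟨by norm_num⟩
  have hn := ncard_mul g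
  rw [hg, hK] at hn
  have hmem : g ∈ Subgroup.centralizer ({g} : Set K) := Subgroup.mem_centralizer_singleton_iff.2 rfl
  have hg5 : g ^ 5 = 1 := by
    have h1 : (⟨g, hmem⟩ : Subgroup.centralizer ({g} : Set K)) ^ 5 = 1 := by
      rw [← hg]; exact pow_card_eq_one'
    exact congrArg Subtype.val h1
  have hP : IsPGroup 5 (Subgroup.zpowers g) := by
    intro y
    refine ⟨1, ?_⟩
    obtain ⟨y, hy⟩ := y
    obtain ⟨k, rfl⟩ := hy
    apply Subtype.ext
    show (g ^ k) ^ 5 ^ 1 = 1
    rw [pow_one, ← zpow_natCast, ← zpow_mul, mul_comm, zpow_mul]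
    rw [show g ^ ((5 : ℕ) : ℤ) = 1 by rw [zpow_natCast]; exact hg5, one_zpow]
  obtain ⟨P, hPle⟩ := hP.exists_le_sylow
  have hPc : Nat.card P = 5 := by
    rw [P.card_eq_multiplicity, hK]
    have : (35 : ℕ).factorization 5 = 1 := by
      rw [show (35 : ℕ) = 5 * 7 by norm_num, Nat.factorization_mul (by norm_num) (by norm_num),
        Finsupp.add_apply, Nat.Prime.factorization_self (by norm_num),
        Nat.factorization_eq_zero_of_not_dvd (by norm_num)]
    rw [this, pow_one]
  have hidx : (P : Subgroup K).index = 7 := by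
    have h1 := (P : Subgroup K).card_mul_index
    rw [hK] at h1
    have h2 : Nat.card (P : Subgroup K) = 5 := hPc
    rw [h2] at h1
    omega
  have hs1 := card_sylow_modEq_one 5 K
  have hs2 := P.card_dvd_index
  rw [hidx] at hs2
  have hs3 : Nat.card (Sylow 5 K) = 1 := by
    rcases (Nat.dvd_prime (by norm_num)).1 hs2 with h | h
    · exact h
    · rw [h] at hs1
      exact absurd hs1 (by decide)
  have hsub : Subsingleton (Sylow 5 K) := (Nat.card_eq_one_iff_unique.1 hs3).1
  have hnor : (P : Subgroup K).Normal := Sylow.normal_of_subsingleton P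
  have hsubset : (ConjClasses.mk g).carrier ⊆ ((P : Subgroup K) : Set K) := by
    intro h hh
    rw [ConjClasses.mem_carrier_iff_mk_eq, ConjClasses.mk_eq_mk_iff_isConj] at hh
    obtain ⟨c, rfl⟩ := isConj_iff.1 hh.symm
    exact hnor.conj_mem g (hPle (Subgroup.mem_zpowers g)) c
  have h7 := Set.ncard_le_ncard hsubset (Set.toFinite _)
  have h8 : ((P : Subgroup K) : Set K).ncard = 5 := by
    rw [← Nat.card_coe_set_eq]; exact hPc
  omega

/-- no element of a group of order 171 has a centralizer of order 3 -/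
theorem no_171 [Finite K] (hK : Nat.card K = 171) {g : K}
    (hg : Nat.card (Subgroup.centralizer ({g} : Set K)) = 3) : False := by
  have h5 : Fact (Nat.Prime 3) := ⟨by norm_num⟩
  have hmem : g ∈ Subgroup.centralizer ({g} : Set K) := Subgroup.mem_centralizer_singleton_iff.2 rfl
  have hg5 : g ^ 3 = 1 := by
    have h1 : (⟨g, hmem⟩ : Subgroup.centralizer ({g} : Set K)) ^ 3 = 1 := by
      rw [← hg]; exact pow_card_eq_one'
    exact congrArg Subtype.val h1
  have hP : IsPGroup 3 (Subgroup.zpowers g) := by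
    intro y
    refine ⟨1, ?_⟩
    obtain ⟨y, hy⟩ := y
    obtain ⟨k, rfl⟩ := hy
    apply Subtype.ext
    show (g ^ k) ^ 3 ^ 1 = 1
    rw [pow_one, ← zpow_natCast, ← zpow_mul, mul_comm, zpow_mul]
    rw [show g ^ ((3 : ℕ) : ℤ) = 1 by rw [zpow_natCast]; exact hg5, one_zpow]
  obtain ⟨P, hPle⟩ := hP.exists_le_sylow
  have hPc : Nat.card P = 3 ^ 2 := by
    rw [P.card_eq_multiplicity, hK]
    have : (171 : ℕ).factorization 3 = 2 := by
      rw [show (171 : ℕ) = 3 * (3 * 19) by norm_num, Nat.factorization_mul (by norm_num) (by norm_num),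
        Nat.factorization_mul (by norm_num) (by norm_num),
        Finsupp.add_apply, Finsupp.add_apply, Nat.Prime.factorization_self (by norm_num),
        Nat.factorization_eq_zero_of_not_dvd (show ¬ 3 ∣ 19 by norm_num)]
      rfl
    rw [this]
  have hcomm := (IsPGroup.isMulCommutative_of_card_eq_prime_sq (p := 3) (G := P) hPc).is_comm.comm
  have hle : (P : Subgroup K) ≤ Subgroup.centralizer ({g} : Set K) := by
    intro h hh
    rw [Subgroup.mem_centralizer_singleton_iff]
    exact congrArg Subtype.val (hcomm ⟨h, hh⟩ ⟨g, hPle (Subgroup.mem_zpowers g)⟩)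
  have h7 := Subgroup.card_dvd_of_le hle
  rw [hg] at h7
  have h8 : Nat.card (P : Subgroup K) = 9 := hPc
  rw [h8] at h7
  exact absurd h7 (by norm_num)

/-- **The orders of the groups of odd order with at most eight classes.** -/
theorem card_mem [Finite K] (hodd : Odd (Nat.card K)) (hk : Nat.card (ConjClasses K) ≤ 8) :
    (Nat.card (ConjClasses K) = 1 ∧ Nat.card K = 1) ∨ (Nat.card (ConjClasses K) = 3 ∧ Nat.card K = 3) ∨
    (Nat.card (ConjClasses K) = 5 ∧ Nat.card K ∈ [5, 9, 21]) ∨
    (Nat.card (ConjClasses K) = 7 ∧ Nat.card K ∈ L7) := by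
  obtain ⟨l, h1, h2, h3⟩ := class_eq hodd
  have hf : ∀ c ∈ l, ∃ u, c.carrier.ncard * u = Nat.card K ∧ Odd u ∧ 3 ≤ u ∧
      (Nat.card K = 35 → u ≠ 5) ∧ (Nat.card K = 171 → u ≠ 3) := by
    intro c hc
    obtain ⟨g, hg, rfl⟩ := h2 c hc
    obtain ⟨h4, h5⟩ := cent_facts hodd hg
    exact ⟨_, ncard_mul g, h4, h5, fun h h' => no_35 h h', fun h h' => no_171 h h'⟩
  match l, h1, h3, hf with
  | [], h1, h3, _ =>
    left
    simp only [List.length_nil, List.map_nil, List.sum_nil] at h1 h3
    omega
  | [a], h1, h3, hf =>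
    right; left
    obtain ⟨u, hu, -⟩ := hf a (by simp)
    simp only [List.length_cons, List.length_nil, List.map_cons, List.map_nil, List.sum_cons, List.sum_nil,
      add_zero] at h1 h3
    exact ⟨by omega, num1 hu h3⟩
  | [a, b], h1, h3, hf =>
    right; right; left
    obtain ⟨u, hu, huo, hu3, -⟩ := hf a (by simp)
    obtain ⟨v, hv, hvo, hv3, -⟩ := hf b (by simp)
    simp only [List.length_cons, List.length_nil, List.map_cons, List.map_nil, List.sum_cons, List.sum_nil,
      add_zero] at h1 h3
    refine ⟨by omega, ?_⟩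
    have := num2 hu hv huo hvo hu3 hv3 (by (clear * - h3; omega))
    simp only [List.mem_cons, List.not_mem_nil, or_false]
    exact this
  | [a, b, c], h1, h3, hf =>
    right; right; right
    obtain ⟨u, hu, huo, hu3, hu5, hu1⟩ := hf a (by simp)
    obtain ⟨v, hv, hvo, hv3, hv5, hv1⟩ := hf b (by simp)
    obtain ⟨w, hw, hwo, hw3, hw5, hw1⟩ := hf c (by simp)
    simp only [List.length_cons, List.length_nil, List.map_cons, List.map_nil, List.sum_cons, List.sum_nil,
      add_zero] at h1 h3
    refine ⟨by omega, ?_⟩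
    rcases num3 hu hv hw huo hvo hwo hu3 hv3 hw3 (by (clear * - h3; omega)) with h | ⟨h, h'⟩ | ⟨h, h'⟩
    · exact h
    · exfalso
      have := hu5 h
      have := hv5 h
      have := hw5 h
      (solve | (intros; casesm* _ ∨ _, _ ∧ _) <;> (first | with_reducible contradiction | repeat (first | with_reducible assumption | exact Or.inl (by with_reducible assumption) | refine Or.inr ?_)) | itauto)
    · exfalso
      have := hu1 h
      have := hv1 h
      have := hw1 h
      (solve | (intros; casesm* _ ∨ _, _ ∧ _) <;> (first | with_reducible contradiction | repeat (first | with_reducible assumption | exact Or.inl (by with_reducible assumption) | refine Or.inr ?_)) | itauto)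
  | a :: b :: c :: d :: l, h1, _, _ =>
    exfalso
    simp only [List.length_cons] at h1
    omega

end group

end Cfsg.Agent.H455.FewOdd
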