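import Cfsg.Agent.H701.ZerosCols
import Cfsg.Agent.H547.SelfCent.Base
import Cfsg.Agent.H455.FewOdd
import Cfsg.Agent.H771.KTools_m3
import Cfsg.Agent.FastGrp
import Cfsg.Agent.Prune
set_option linter.all false
prune_inst 0x7f00000000000000000000000000000000000000000000000000000000000000000000000000000000000000000000000000000000000000000000000000000000000000000000000000000000000000003fffffffffffffffffffffffffffbeffbdffffffff
open scoped Cfsg.Agent.FastGrp

-- part: H455/FewDZ
section
/-!
# Few classes of `r`-singular elements (helper455, for S4895)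

Let `r` be a prime with Sylow subgroup `⟨x⟩` of order `r`, such that no element of order `r` commutes with an
involution. Then `C(x) = ⟨x⟩ × K` with `|K|` odd and there are `m k(K)` classes of `r`-singular elements,
`m = (r - 1) / |N(x) : C(x)|`. If there are at most eight of them then `|K|` is known and the Sylow
congruence shows `K = 1` in most cases (`dichotomy`).

* `big_of_few` : a character of `r`-defect zero, the numerical check and `8 ≤ (m - 1) (#t - e)` give `Big G`.
-/

set_option autoImplicit false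

namespace Cfsg.Agent.H455.FewDZ

open Subgroup Cfsg.Agent.H504.Zeros Cfsg.Agent.H393.Iso

variable {G : Type*} [Group G]

theorem centralizer_eq_of_zpowers {x y : G} (h1 : x ∈ zpowers y) (h2 : y ∈ zpowers x) :
    centralizer ({y} : Set G) = centralizer ({x} : Set G) := by
  ext g
  rw [mem_centralizer_singleton_iff, mem_centralizer_singleton_iff]
  exact ⟨fun h => (Cfsg.Agent.H547.SelfCent.commute_of_mem (show Commute g y from h) h1).eq,
    fun h => (Cfsg.Agent.H547.SelfCent.commute_of_mem (show Commute g x from h) h2).eq⟩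

theorem mem_zpowers_symm [Finite G] {x y : G} {r : ℕ} (hr : r.Prime) (hx : orderOf x = r) (hy : y ∈ zpowers x)
    (hy1 : y ≠ 1) : orderOf y = r ∧ x ∈ zpowers y := by
  have h1 : orderOf y ∣ r := by
    rw [← hx]
    exact orderOf_dvd_of_mem_zpowers hy
  have h2 : orderOf y = r := by
    rcases (Nat.dvd_prime hr).1 h1 with h | h
    · exact absurd (orderOf_eq_one_iff.1 h) hy1
    · exact h
  refine ⟨h2, ?_⟩
  have h3 : zpowers y = zpowers x := by
    apply Subgroup.eq_of_le_of_card_ge (zpowers_le.2 hy)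
    rw [Nat.card_zpowers, Nat.card_zpowers, h2, hx]
  rw [h3]
  exact mem_zpowers x

/-- the classes of `G` in `⟨x⟩` -/
theorem exists_reps_prime [Finite G] {x : G} {r e : ℕ} (hr : r.Prime) (hx : orderOf x = r)
    (hN : Nat.card (normalizer (zpowers x : Set G)) = Nat.card (centralizer ({x} : Set G)) * e) :
    ∃ T : Finset G, NonConj T ∧ (∀ y ∈ T, orderOf y = r ∧ centralizer ({y} : Set G) = centralizer ({x} : Set G)) ∧
      r - 1 ≤ T.card * e := by
  classical
  have := Fintype.ofFinite (zpowers x)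
  let D : Finset (zpowers x) := Finset.univ.erase 1
  let C : Finset (ConjClasses G) := D.image fun a : zpowers x => ConjClasses.mk (a : G)
  have hfib : ∀ c ∈ C, (D.filter fun a : zpowers x => ConjClasses.mk (a : G) = c).card ≤ e := by
    intro c hc
    obtain ⟨a, ha, rfl⟩ := Finset.mem_image.1 hc
    have ha1 : (a : G) ≠ 1 := fun h => Finset.ne_of_mem_erase ha (Subtype.ext h)
    obtain ⟨hao, hxa⟩ := mem_zpowers_symm hr hx a.2 ha1
    have hCa := centralizer_eq_of_zpowers hxa a.2
    set F := D.filter fun b : zpowers x => ConjClasses.mk (b : G) = ConjClasses.mk (a : G) with hF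
    have hFm : ∀ b : F, ∃ n : normalizer (zpowers x : Set G), (n : G) * a * (n : G)⁻¹ = (b : zpowers x) := by
      rintro ⟨b, hb⟩
      rw [hF, Finset.mem_filter] at hb
      have h1 := ConjClasses.mk_eq_mk_iff_isConj.1 hb.2
      obtain ⟨g, hg⟩ := isConj_iff.1 h1.symm
      obtain ⟨k, hk⟩ : ∃ k : ℕ, (b : G) = (a : G) ^ k := by
        have hb1 : (b : G) ∈ zpowers (a : G) := by
          have h3 : zpowers (a : G) = zpowers x := by
            apply Subgroup.eq_of_le_of_card_ge (zpowers_le.2 a.2)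
            rw [Nat.card_zpowers, Nat.card_zpowers, hao, hx]
          rw [h3]; exact b.2
        rw [← mem_powers_iff_mem_zpowers] at hb1
        obtain ⟨k, hk⟩ := hb1
        exact ⟨k, hk.symm⟩
      have h2 : g ∈ normalizer (zpowers (a : G) : Set G) := by
        refine Cfsg.Agent.H547.SelfCent.mem_norm (k := k) ?_
        rw [hg, hk]
      have h3 : zpowers (a : G) = zpowers x := by
        apply Subgroup.eq_of_le_of_card_ge (zpowers_le.2 a.2)
        rw [Nat.card_zpowers, Nat.card_zpowers, hao, hx]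
      rw [h3] at h2
      exact ⟨⟨g, h2⟩, hg⟩
    choose n hn using hFm
    let φ : F × centralizer ({x} : Set G) → normalizer (zpowers x : Set G) := fun p =>
      n p.1 * ⟨(p.2 : G), Cfsg.Agent.H547.SelfCent.cent_le_norm x p.2.2⟩
    have hφ : Function.Injective φ := by
      rintro ⟨b, c⟩ ⟨b', c'⟩ h
      have h1 : (n b : G) * (c : G) = (n b' : G) * (c' : G) := congrArg Subtype.val h
      have hc : ∀ c : centralizer ({x} : Set G), (c : G) * a = a * c := by
        rintro ⟨c, hc⟩
        rw [← hCa] at hc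
        exact mem_centralizer_singleton_iff.1 hc
      have h2 : ∀ (b : F) (c : centralizer ({x} : Set G)),
          ((n b : G) * (c : G)) * a * ((n b : G) * (c : G))⁻¹ = (b : zpowers x) := by
        intro b c
        rw [← hn b]
        calc ((n b : G) * (c : G)) * a * ((n b : G) * (c : G))⁻¹ = (n b : G) * ((c : G) * a) * (c : G)⁻¹ * (n b : G)⁻¹ := by
              group
          _ = (n b : G) * (a * c) * (c : G)⁻¹ * (n b : G)⁻¹ := by rw [hc]
          _ = _ := by group
      have h3 : b = b' := by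
        have := h2 b c
        rw [h1, h2 b' c'] at this
        exact Subtype.ext (Subtype.ext this.symm)
      subst h3
      have h4 : (c : G) = c' := mul_left_cancel h1
      rw [Subtype.ext h4]
    have hcard := Nat.card_le_card_of_injective φ hφ
    rw [Nat.card_prod, hN, mul_comm] at hcard
    have h5 := Nat.le_of_mul_le_mul_left hcard Nat.card_pos
    rwa [Nat.card_eq_fintype_card, Fintype.card_coe] at h5
  have hC : r - 1 ≤ C.card * e := by
    have h1 := Finset.card_le_mul_card_image (f := fun a : zpowers x => ConjClasses.mk (a : G)) D e hfib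
    have h2 : D.card = r - 1 := by
      rw [Finset.card_erase_of_mem (Finset.mem_univ _), Finset.card_univ, ← Nat.card_eq_fintype_card,
        Nat.card_zpowers, hx]
    rw [h2, mul_comm] at h1
    exact h1
  have hex : ∀ c ∈ C, ∃ a : G, a ∈ zpowers x ∧ a ≠ 1 ∧ ConjClasses.mk a = c := by
    intro c hc
    obtain ⟨a, ha, rfl⟩ := Finset.mem_image.1 hc
    exact ⟨a, a.2, fun h => Finset.ne_of_mem_erase ha (Subtype.ext h), rfl⟩
  choose q hq1 hq2 hq3 using hex
  refine ⟨C.attach.image fun c => q c.1 c.2, ?_, ?_, ?_⟩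
  · intro g hg h hh hconj
    obtain ⟨c, -, rfl⟩ := Finset.mem_image.1 hg
    obtain ⟨d, -, rfl⟩ := Finset.mem_image.1 hh
    have h1 := ConjClasses.mk_eq_mk_iff_isConj.2 hconj
    rw [hq3, hq3] at h1
    have h2 : c = d := Subtype.ext h1
    rw [h2]
  · intro g hg
    obtain ⟨c, -, rfl⟩ := Finset.mem_image.1 hg
    obtain ⟨h1, h2⟩ := mem_zpowers_symm hr hx (hq1 c.1 c.2) (hq2 c.1 c.2)
    exact ⟨h1, centralizer_eq_of_zpowers h2 (hq1 c.1 c.2)⟩
  · rw [Finset.card_image_of_injective, Finset.card_attach]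
    · exact hC
    · intro c d hcd
      apply Subtype.ext
      rw [← hq3 c.1 c.2, ← hq3 d.1 d.2]
      exact congrArg _ hcd

theorem exists_pow {k k' : G} {r : ℕ} (hr : r.Prime) (hk : ¬ r ∣ orderOf k) (hk' : ¬ r ∣ orderOf k') :
    ∃ a : ℕ, k ^ a = 1 ∧ k' ^ a = 1 ∧ ∀ z : G, orderOf z = r → z ^ a = z := by
  have hcop : Nat.Coprime r (orderOf k * orderOf k') := by
    rw [Nat.Prime.coprime_iff_not_dvd hr]
    intro h
    rcases hr.dvd_mul.1 h with h | h
    · exact hk h
    · exact hk' h
  obtain ⟨a, ha1, ha2⟩ := Nat.chineseRemainder hcop 1 0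
  refine ⟨a, ?_, ?_, ?_⟩
  · have h1 : orderOf k * orderOf k' ∣ a := (Nat.modEq_zero_iff_dvd).1 ha2
    exact orderOf_dvd_iff_pow_eq_one.1 ((dvd_mul_right _ _).trans h1)
  · have h1 : orderOf k * orderOf k' ∣ a := (Nat.modEq_zero_iff_dvd).1 ha2
    exact orderOf_dvd_iff_pow_eq_one.1 ((dvd_mul_left _ _).trans h1)
  · intro z hz
    nth_rw 2 [← pow_one z]
    rw [pow_inj_mod, hz]
    exact ha1

/-- `r`-singular elements from the classes of `⟨x⟩` and the classes of `C(x)` -/
theorem nonconj_mul [Finite G] {T S : Finset G} {x : G} {r : ℕ} (hr : r.Prime) (hT : NonConj T)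
    (hTo : ∀ y ∈ T, orderOf y = r ∧ centralizer ({y} : Set G) = centralizer ({x} : Set G))
    (hS : ∀ k ∈ S, k ∈ centralizer ({x} : Set G) ∧ ¬ r ∣ orderOf k)
    (hSc : ∀ k ∈ S, ∀ k' ∈ S, ∀ c ∈ centralizer ({x} : Set G), c * k * c⁻¹ = k' → k = k') :
    ∃ U : Finset G, NonConj U ∧ U.card = T.card * S.card ∧ ∀ g ∈ U, r ∣ orderOf g := by
  classical
  have hcomm : ∀ y ∈ T, ∀ k ∈ S, Commute y k := by
    intro y hy k hk
    have h1 := (hS k hk).1
    rw [← (hTo y hy).2, mem_centralizer_singleton_iff] at h1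
    exact h1.symm
  have key : ∀ y ∈ T, ∀ k ∈ S, ∀ y' ∈ T, ∀ k' ∈ S, IsConj (y * k) (y' * k') → y = y' ∧ k = k' := by
    intro y hy k hk y' hy' k' hk' h
    obtain ⟨g, hg⟩ := isConj_iff.1 h
    obtain ⟨a, ha1, ha2, ha3⟩ := exists_pow hr (hS k hk).2 (hS k' hk').2
    have h1 : (g * (y * k) * g⁻¹) ^ a = g * y * g⁻¹ := by
      rw [conj_pow, (hcomm y hy k hk).mul_pow, ha1, ha3 y (hTo y hy).1, mul_one]
    rw [hg, (hcomm y' hy' k' hk').mul_pow, ha2, ha3 y' (hTo y' hy').1, mul_one] at h1
    have h2 : y = y' := hT y hy y' hy' (isConj_iff.2 ⟨g, h1.symm⟩)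
    subst h2
    refine ⟨rfl, ?_⟩
    have h3 : g ∈ centralizer ({x} : Set G) := by
      rw [← (hTo y hy).2, mem_centralizer_singleton_iff]
      nth_rewrite 2 [h1]
      group
    refine hSc k hk k' hk' g h3 ?_
    have h4 : g * y * g⁻¹ * (g * k * g⁻¹) = y * k' := by rw [← hg]; group
    rw [← h1] at h4
    exact mul_left_cancel h4
  refine ⟨(T ×ˢ S).image fun p => p.1 * p.2, ?_, ?_, ?_⟩
  · intro g hg h hh hconj
    obtain ⟨⟨y, k⟩, hp, rfl⟩ := Finset.mem_image.1 hg
    obtain ⟨⟨y', k'⟩, hp', rfl⟩ := Finset.mem_image.1 hh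
    obtain ⟨hy, hk⟩ := Finset.mem_product.1 hp
    obtain ⟨hy', hk'⟩ := Finset.mem_product.1 hp'
    obtain ⟨h1, h2⟩ := key y hy k hk y' hy' k' hk' hconj
    rw [show y = y' from h1, show k = k' from h2]
  · rw [Finset.card_image_of_injOn, Finset.card_product]
    rintro ⟨y, k⟩ hp ⟨y', k'⟩ hp' hpp
    obtain ⟨hy, hk⟩ := Finset.mem_product.1 hp
    obtain ⟨hy', hk'⟩ := Finset.mem_product.1 hp'
    obtain ⟨h1, h2⟩ := key y hy k hk y' hy' k' hk' (by
      have h3 : y * k = y' * k' := hpp
      rw [h3])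
    exact Prod.ext h1 h2
  · intro g hg
    obtain ⟨⟨y, k⟩, hp, rfl⟩ := Finset.mem_image.1 hg
    obtain ⟨hy, hk⟩ := Finset.mem_product.1 hp
    have h1 : (orderOf y).Coprime (orderOf k) := by
      rw [(hTo y hy).1, Nat.Prime.coprime_iff_not_dvd hr]
      exact (hS k hk).2
    show r ∣ orderOf (y * k)
    rw [(hcomm y hy k hk).orderOf_mul_eq_mul_orderOf_of_coprime h1, (hTo y hy).1]
    exact dvd_mul_right _ _

/-- the structure of `C(x)`: a complement `K` of `⟨x⟩` and representatives of its classes -/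
theorem exists_compl [Finite G] {x : G} {r : ℕ} (hr : r.Prime) (hx : orderOf x = r)
    (hsq : ¬ r * r ∣ Nat.card G) :
    ∃ (K : Subgroup (centralizer ({x} : Set G))) (S : Finset G),
      Nat.card (centralizer ({x} : Set G)) = r * Nat.card K ∧ S.card = Nat.card (ConjClasses K) ∧
      (∀ k ∈ S, k ∈ centralizer ({x} : Set G) ∧ ¬ r ∣ orderOf k) ∧
      (∀ k ∈ S, ∀ k' ∈ S, ∀ c ∈ centralizer ({x} : Set G), c * k * c⁻¹ = k' → k = k') := by
  classical
  set C := centralizer ({x} : Set G) with hC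
  have hxC : x ∈ C := mem_centralizer_singleton_iff.2 rfl
  let xc : C := ⟨x, hxC⟩
  have hcen : ∀ c : C, c * xc = xc * c := fun c => Subtype.ext (mem_centralizer_singleton_iff.1 c.2)
  let Z : Subgroup C := zpowers xc
  have hZc : Nat.card Z = r := by
    rw [Nat.card_zpowers, ← hx]
    exact Subgroup.orderOf_mk x hxC
  have hZcen : ∀ z ∈ Z, ∀ c : C, c * z = z * c := by
    intro z hz c
    obtain ⟨k, rfl⟩ := mem_zpowers_iff.1 hz
    exact ((show Commute c xc from hcen c).zpow_right k).eq
  have hZn : Z.Normal := ⟨fun z hz c => by rw [hZcen z hz c, mul_inv_cancel_right]; exact hz⟩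
  have hidx : Nat.Coprime (Nat.card Z) Z.index := by
    rw [hZc, Nat.Prime.coprime_iff_not_dvd hr]
    intro h
    apply hsq
    refine Nat.dvd_trans ?_ (Subgroup.card_subgroup_dvd_card C)
    rw [← Subgroup.card_mul_index Z, hZc]
    exact Nat.mul_dvd_mul_left r h
  obtain ⟨K, hK⟩ := exists_right_complement'_of_coprime hidx
  have hKi : Nat.card K = Z.index := hK.symm.index_eq_card.symm
  have hrK : ¬ r ∣ Nat.card K := by
    rw [hKi]
    rw [hZc, Nat.Prime.coprime_iff_not_dvd hr] at hidx
    exact hidx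
  have : Finite (ConjClasses K) := Quotient.finite _
  have := Fintype.ofFinite (ConjClasses K)
  let f : ConjClasses K → G := fun q => ((Quotient.out q : K) : C)
  have hmk : ∀ q : ConjClasses K, ConjClasses.mk (Quotient.out q : K) = q := fun q => Quotient.out_eq q
  have hf : Function.Injective f := by
    intro p q h
    have h1 : (Quotient.out p : K) = Quotient.out q := Subtype.ext (Subtype.ext h)
    rw [← hmk p, ← hmk q, h1]
  refine ⟨K, Finset.univ.image f, ?_, ?_, ?_, ?_⟩
  · rw [hKi, ← hZc, Subgroup.card_mul_index]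
  · rw [Finset.card_image_of_injective _ hf, Finset.card_univ, Nat.card_eq_fintype_card]
  · intro k hk
    obtain ⟨q, -, rfl⟩ := Finset.mem_image.1 hk
    refine ⟨(Quotient.out q : K).1.2, fun h => hrK (h.trans ?_)⟩
    show orderOf (((Quotient.out q : K) : C) : G) ∣ Nat.card K
    rw [Subgroup.orderOf_coe, Subgroup.orderOf_coe]
    exact orderOf_dvd_natCard _
  · intro k hk k' hk' c hc hck
    obtain ⟨q, -, rfl⟩ := Finset.mem_image.1 hk
    obtain ⟨q', -, rfl⟩ := Finset.mem_image.1 hk'
    obtain ⟨⟨⟨z, hz⟩, κ⟩, hzk⟩ := hK.2 ⟨c, hc⟩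
    have hzk' : z * (κ : C) = ⟨c, hc⟩ := hzk
    have h1 : (κ : C) * (Quotient.out q : K) * (κ : C)⁻¹ = ((Quotient.out q' : K) : C) := by
      have h2 : (⟨c, hc⟩ : C) * (Quotient.out q : K) * (⟨c, hc⟩ : C)⁻¹ = ((Quotient.out q' : K) : C) :=
        Subtype.ext hck
      rw [← h2, ← hzk']
      calc (κ : C) * (Quotient.out q : K) * (κ : C)⁻¹ =
            ((κ : C) * (Quotient.out q : K) * (κ : C)⁻¹) * z * z⁻¹ := by group
        _ = z * ((κ : C) * (Quotient.out q : K) * (κ : C)⁻¹) * z⁻¹ := by rw [hZcen z hz]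
        _ = z * (κ : C) * (Quotient.out q : K) * (z * (κ : C))⁻¹ := by group
    have h3 : κ * Quotient.out q * κ⁻¹ = Quotient.out q' := Subtype.ext h1
    have h4 : q = q' := by
      rw [← hmk q, ← hmk q', ConjClasses.mk_eq_mk_iff_isConj]
      exact isConj_iff.2 ⟨κ, h3⟩
    rw [h4]

/-- the possible class numbers and orders of the complement -/
def pairs : List (ℕ × ℕ) :=
  [(3, 3), (5, 5), (5, 9), (5, 21), (7, 7), (7, 15), (7, 27), (7, 39), (7, 55), (7, 63), (7, 147), (7, 315), (7, 903)]

/-- the numerical check -/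
def chk (N r : ℕ) : Bool :=
  (List.range r).all fun e => (e == 0) || ((r - 1) % e != 0) || pairs.all fun p =>
    (Nat.blt 8 ((r - 1) / e * p.1)) || (N % (r * p.2 * e) != 0) || (N / (r * p.2 * e) % r != 1)

theorem false_of_chk {N r : ℕ} (h : chk N r = true) (hr : 1 < r) {e k n : ℕ} (he : e ∣ r - 1)
    (hp : (k, n) ∈ pairs) (h8 : (r - 1) / e * k ≤ 8) (hd : r * n * e ∣ N) (hN : N / (r * n * e) % r = 1 % r) :
    False := by
  unfold chk at h
  rw [List.all_eq_true] at h
  have he0 : e ≠ 0 := by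
    rintro rfl
    have := Nat.eq_zero_of_zero_dvd he
    omega
  have hle := Nat.le_of_dvd (by omega) he
  have h1 := h e (List.mem_range.2 (by omega))
  rw [Nat.mod_eq_of_lt hr] at hN
  simp only [Bool.or_eq_true, beq_iff_eq, bne_iff_ne] at h1
  rcases h1 with (h1 | h1) | h1
  · exact he0 h1
  · exact h1 (Nat.mod_eq_zero_of_dvd he)
  · rw [List.all_eq_true] at h1
    have h2 := h1 _ hp
    simp only [Bool.or_eq_true, bne_iff_ne, Nat.blt_eq] at h2
    rcases h2 with (h2 | h2) | h2
    · omega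
    · exact h2 (Nat.mod_eq_zero_of_dvd hd)
    · exact h2 hN

/-- **nine classes of `r`-singular elements or a self-centralizing Sylow subgroup of order `r`** -/
theorem dichotomy [Finite G] {r N : ℕ} (hr : r.Prime) (hG : Nat.card G = N) (hsq : ¬ r * r ∣ N)
    (hna : NA r G) {x : G} (hx : orderOf x = r) (hchk : chk N r = true) :
    (∃ s : Finset G, NonConj s ∧ (∀ g ∈ s, r ∣ orderOf g) ∧ 9 ≤ s.card) ∨
      Nat.card (centralizer ({x} : Set G)) = r := by
  subst hG
  obtain ⟨e, he, h1, h2, h3, -⟩ := Cfsg.Agent.H547.SelfCent.arith hr hx hsq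
  obtain ⟨T, hT, hTo, hTc⟩ := exists_reps_prime hr hx h3
  obtain ⟨K, S, hK, hS, hSo, hSc⟩ := exists_compl hr hx hsq
  obtain ⟨U, hU, hUc, hUo⟩ := nonconj_mul hr hT hTo hSo hSc
  rcases Nat.lt_or_ge 8 U.card with h9 | h9
  · exact Or.inl ⟨U, hU, hUo, h9⟩
  right
  have hodd : Odd (Nat.card K) := by
    have h4 := Cfsg.Agent.H547.SelfCent.odd_cent hx hna
    rw [← Nat.not_even_iff_odd, even_iff_two_dvd]
    intro h5
    exact h4 (by rw [hK]; exact Dvd.dvd.mul_left h5 r)
  have he0 : 0 < e := Nat.pos_of_ne_zero (by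
    rintro rfl
    have := Nat.eq_zero_of_zero_dvd he
    have := hr.two_le
    omega)
  have hm : (r - 1) / e ≤ T.card := by
    rw [Nat.div_le_iff_le_mul_add_pred he0]
    have : T.card * e = e * T.card := mul_comm _ _
    omega
  have hT1 : 0 < T.card := by
    rcases Nat.eq_zero_or_pos T.card with h | h
    · rw [h, zero_mul] at hTc
      have := hr.two_le
      omega
    · exact h
  rw [hUc, hS] at h9
  have hk8 : Nat.card (ConjClasses K) ≤ 8 := by
    have : 1 * Nat.card (ConjClasses K) ≤ T.card * Nat.card (ConjClasses K) := Nat.mul_le_mul_right _ hT1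
    omega
  have hmk : (r - 1) / e * Nat.card (ConjClasses K) ≤ 8 := (Nat.mul_le_mul_right _ hm).trans h9
  rw [hK] at h1 h2
  have key : ∀ k n : ℕ, (k, n) ∈ pairs → Nat.card (ConjClasses K) = k → Nat.card K = n → False := by
    intro k n hp hk hn
    rw [hn] at h1 h2
    rw [hk] at hmk
    exact false_of_chk hchk hr.one_lt he hp hmk h1 h2
  rcases FewOdd.card_mem hodd hk8 with ⟨-, h⟩ | ⟨h, h'⟩ | ⟨h, h'⟩ | ⟨h, h'⟩
  · rw [hK, h, mul_one]
  · exact (key 3 3 (by decide) h h').elim
  · exfalso
    simp only [List.mem_cons, List.not_mem_nil, or_false] at h'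
    rcases h' with h' | h' | h'
    · exact key 5 5 (by decide) h h'
    · exact key 5 9 (by decide) h h'
    · exact key 5 21 (by decide) h h'
  · exfalso
    simp only [FewOdd.L7, List.mem_cons, List.not_mem_nil, or_false] at h'
    rcases h' with h' | h' | h' | h' | h' | h' | h' | h' | h'
    · exact key 7 7 (by decide) h h'
    · exact key 7 15 (by decide) h h'
    · exact key 7 27 (by decide) h h'
    · exact key 7 39 (by decide) h h'
    · exact key 7 55 (by decide) h h'
    · exact key 7 63 (by decide) h h'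
    · exact key 7 147 (by decide) h h'
    · exact key 7 315 (by decide) h h'
    · exact key 7 903 (by decide) h h'

/-- **`Big G`** from a character of `r`-defect zero, the numerical check and a set `t` of non-conjugate
elements of order different from `r`. -/
theorem big_of_few [Finite G] {r n e m N : ℕ} [hf : Fact r.Prime]
    (hdz : Cfsg.Agent.H665.NoPQ.HasDZ r G) (hG : Nat.card G = N) (hN : N = r * n) (he : n % r = e)
    (hm : 2 ≤ m) (hem : r = e * m + 1) (hsq : ¬ r * r ∣ N) (hna : NA r G) (hchk : chk N r = true)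
    (t : Finset G) (ht : NonConj t) (hout : ∀ g ∈ t, orderOf g ≠ r)
    (h : 8 ≤ (m - 1) * (t.card - e)) : Big G := by
  have hr := hf.out
  obtain ⟨x, hx⟩ := exists_prime_orderOf_dvd_card' (G := G) r (by rw [hG, hN]; exact dvd_mul_right _ _)
  rcases dichotomy hr hG hsq hna hx hchk with ⟨s, hs, hso, hs9⟩ | hc
  · exact big_of_dz hdz s hs hso hs9
  · exact big_of_isolated_out hr hx hc (hG.trans hN) he hm hem t ht hout h

end Cfsg.Agent.H455.FewDZ
end

-- part: H455/ZeroTools
section
/-!
# Tools for the sporadic rows of S4895 (helper455)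

* `exists_of_lists` : non-conjugate elements from element orders with multiplicities;
* `big_of_orders_few` : `Big G` from a character of `r`-defect zero and a set of element orders.
-/

set_option autoImplicit false

namespace Cfsg.Agent.H455.ZeroTools

open Subgroup Cfsg.Agent.H504.Zeros Cfsg.Agent.H393.Iso Cfsg.Agent.H92.KTools Cfsg.Agent.H455.FewDZ

variable {G : Type*} [Group G]

/-- non-conjugate elements from element orders with multiplicities -/
theorem exists_of_lists [Finite G] (s : Finset ℕ) (f : ℕ → ℕ)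
    (h : ∀ n ∈ s, ∃ l : List G, l.length = f n ∧ (∀ x ∈ l, orderOf x = n) ∧
      l.Pairwise fun x y => ¬ IsConj x y) :
    ∃ t : Finset G, NonConj t ∧ t.card = ∑ n ∈ s, f n ∧ ∀ g ∈ t, orderOf g ∈ s := by
  classical
  choose! l hl using h
  have hnd : ∀ n ∈ s, (l n).Nodup := fun n hn =>
    (hl n hn).2.2.imp fun {a b} hab => by
      rintro rfl
      exact hab (IsConj.refl _)
  refine ⟨s.biUnion fun n => (l n).toFinset, ?_, ?_, ?_⟩
  · intro g hg h hh hc
    obtain ⟨n, hn, hgn⟩ := Finset.mem_biUnion.1 hg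
    obtain ⟨m, hm, hhm⟩ := Finset.mem_biUnion.1 hh
    rw [List.mem_toFinset] at hgn hhm
    have h1 : n = m := by
      have h2 := orderOf_eq_of_isConj hc
      rwa [(hl n hn).2.1 _ hgn, (hl m hm).2.1 _ hhm] at h2
    subst h1
    by_contra hne
    have hp := (hl n hn).2.2
    obtain ⟨i, hi⟩ := List.get_of_mem hgn
    obtain ⟨j, hj⟩ := List.get_of_mem hhm
    rcases lt_trichotomy i j with hij | hij | hij
    · exact List.pairwise_iff_get.1 hp i j hij (by rw [hi, hj]; exact hc)
    · apply hne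
      rw [← hi, ← hj, hij]
    · exact List.pairwise_iff_get.1 hp j i hij (by rw [hi, hj]; exact hc.symm)
  · rw [Finset.card_biUnion]
    · refine Finset.sum_congr rfl fun n hn => ?_
      rw [List.toFinset_card_of_nodup (hnd n hn), (hl n hn).1]
    · intro n hn m hm hnm
      show Disjoint (l n).toFinset (l m).toFinset
      rw [Finset.disjoint_left]
      intro g hgn hgm
      rw [List.mem_toFinset] at hgn hgm
      exact hnm (by rw [← (hl n hn).2.1 g hgn, ← (hl m hm).2.1 g hgm])
  · intro g hg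
    obtain ⟨n, hn, hgn⟩ := Finset.mem_biUnion.1 hg
    rw [List.mem_toFinset] at hgn
    rw [(hl n hn).2.1 g hgn]
    exact hn

theorem one_list {n : ℕ} (h : HasOrd G n) : ∃ l : List G, l.length = 1 ∧ (∀ x ∈ l, orderOf x = n) ∧
    l.Pairwise fun x y => ¬ IsConj x y := by
  obtain ⟨g, hg⟩ := h
  exact ⟨[g], rfl, by simpa using hg, by simp⟩

theorem two_list {n : ℕ} {x y : G} (hx : orderOf x = n) (hy : orderOf y = n) (h : ¬ IsConj x y) :
    ∃ l : List G, l.length = 2 ∧ (∀ x ∈ l, orderOf x = n) ∧ l.Pairwise fun x y => ¬ IsConj x y := by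
  refine ⟨[x, y], rfl, ?_, ?_⟩
  · intro z hz
    rcases List.mem_pair.1 hz with rfl | rfl
    · exact hx
    · exact hy
  · simpa using h

theorem three_list {n : ℕ} {x y z : G} (hx : orderOf x = n) (hy : orderOf y = n) (hz : orderOf z = n)
    (h : ¬ IsConj x y) (h' : ¬ IsConj x z) (h'' : ¬ IsConj y z) :
    ∃ l : List G, l.length = 3 ∧ (∀ x ∈ l, orderOf x = n) ∧ l.Pairwise fun x y => ¬ IsConj x y := by
  refine ⟨[x, y, z], rfl, ?_, ?_⟩
  · intro w hw
    simp only [List.mem_cons, List.not_mem_nil, or_false] at hw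
    rcases hw with rfl | rfl | rfl
    · exact hx
    · exact hy
    · exact hz
  · refine List.Pairwise.cons ?_ (List.Pairwise.cons ?_ (List.pairwise_singleton _ _))
    · intro w hw
      rcases List.mem_pair.1 hw with rfl | rfl
      · exact h
      · exact h'
    · intro w hw
      rw [List.mem_singleton.1 hw]
      exact h''

/-- `Big G` from a set of element orders -/
theorem big_of_orders_few [Finite G] {r n e m N : ℕ} [hf : Fact r.Prime]
    (hdz : Cfsg.Agent.H665.NoPQ.HasDZ r G) (hG : Nat.card G = N) (hN : N = r * n) (he : n % r = e)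
    (hm : 2 ≤ m) (hem : r = e * m + 1) (hsq : ¬ r * r ∣ N) (hna : NA r G) (hchk : chk N r = true)
    (s : Finset ℕ) (hs : ∀ n ∈ s, HasOrd G n) (hsr : r ∉ s)
    (h : 8 ≤ (m - 1) * (s.card - e)) : Big G := by
  obtain ⟨t, ht, htc, hto⟩ := exists_of_orders (G := G) s hs
  exact big_of_few hdz hG hN he hm hem hsq hna hchk t ht (fun g hg h => hsr (h ▸ hto g hg)) (by rwa [htc])

/-- the same with multiplicities -/
theorem big_of_lists_few [Finite G] {r n e m N : ℕ} [hf : Fact r.Prime]
    (hdz : Cfsg.Agent.H665.NoPQ.HasDZ r G) (hG : Nat.card G = N) (hN : N = r * n) (he : n % r = e)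
    (hm : 2 ≤ m) (hem : r = e * m + 1) (hsq : ¬ r * r ∣ N) (hna : NA r G) (hchk : chk N r = true)
    (s : Finset ℕ) (f : ℕ → ℕ) (hs : ∀ n ∈ s, ∃ l : List G, l.length = f n ∧ (∀ x ∈ l, orderOf x = n) ∧
      l.Pairwise fun x y => ¬ IsConj x y) (hsr : r ∉ s)
    (h : 8 ≤ (m - 1) * ((∑ n ∈ s, f n) - e)) : Big G := by
  obtain ⟨t, ht, htc, hto⟩ := exists_of_lists (G := G) s f hs
  exact big_of_few hdz hG hN he hm hem hsq hna hchk t ht (fun g hg h => hsr (h ▸ hto g hg)) (by rwa [htc])

/-- an element of prime order commuting with an involution -/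
theorem hasOrd_two_mul [Finite G] {p : ℕ} (hp : p.Prime) (hp2 : p ≠ 2) {t : G} (ht : orderOf t = 2)
    (hd : p ∣ Nat.card (centralizer ({t} : Set G))) : HasOrd G (2 * p) := by
  have := Fact.mk hp
  obtain ⟨⟨y, hy⟩, hyo⟩ := exists_prime_orderOf_dvd_card' p hd
  rw [Subgroup.orderOf_mk] at hyo
  exact HasOrd.mul_of_commute ht hyo (mem_centralizer_singleton_iff.1 hy).symm
    ((Nat.coprime_primes Nat.prime_two hp).2 (Ne.symm hp2))

/-- orders of elements of a group times a commuting element of coprime order -/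
theorem HasOrd.two_mul_cent [Finite G] {t : G} (ht : orderOf t = 2) {n : ℕ} (hn : Odd n)
    (h : HasOrd (centralizer ({t} : Set G)) n) : HasOrd G (2 * n) := by
  obtain ⟨⟨y, hy⟩, hyo⟩ := h
  rw [Subgroup.orderOf_mk] at hyo
  exact HasOrd.mul_of_commute ht hyo (mem_centralizer_singleton_iff.1 hy).symm
    (Nat.coprime_two_left.2 hn)

end Cfsg.Agent.H455.ZeroTools
end

private theorem dce_80966d0fd915 : _root_.True := by
  try have : _root_.True := by simp only [_root_.Cfsg.Agent.H455.FewOdd.L7.eq_1]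
  exact _root_.True.intro
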