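import Cfsg.Agent.BabyM.Fi23B
import Cfsg.Agent.BabyM.Instance
import Cfsg.Agent.KFacts.Baby.RowB_m3
import Cfsg.Agent.H537.CopSuzEl
import Cfsg.Agent.S1697
import Cfsg.Agent.S1704
import Cfsg.Agent.H58.Rec.KillTwo
import Cfsg.Agent.Prune
set_option linter.all false
prune_inst 0x7f00000000000000000000000000000000000000000000000000000000000000000000000000000000000000000000000000000000000000000000000000000000000000000000000000000000000000003fffffffffffffffffffffffffffbeffbdffffffff
open scoped Cfsg.Agent.FastGrp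

/-!
# S3484, the Baby Monster: the Frobenius group `23 : 11` (helper455)

`Fi23` is a subgroup of the Baby Monster.
-/

set_option autoImplicit false

namespace Cfsg.Agent.H455.RecB

open Cfsg Subgroup Cfsg.Agent.H58.Rec

section model

open Cfsg.Agent.BabyM.Inst Cfsg.Agent.MonsterX.WordSub Cfsg.Agent.MonsterX.WordRels Cfsg.Agent.BM.StageW
open Cfsg.Agent.BabyM.Fi23B

theorem fi23_model : ∃ K : Subgroup M.G, Nonempty (Spor.Fi23 ≃* K) := by
  obtain ⟨K, e, -⟩ := exists_subgroup Cfsg.Spor.Fi23.edges Cfsg.Spor.Fi23.extra S1697.result.1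
    (fun t => x (BabyM.Fi23B.m t)) (by
      rintro r (hr | hr)
      · exact cox_lift _ _ (fun s _ t _ => by
          show (x (BabyM.Fi23B.m s) * x (BabyM.Fi23B.m t)) ^ _ = 1
          rw [BabyM.Fi23B.label]
          exact cox BabyM.Instance.all BabyM.Instance.ok (BabyM.Fi23B.m s) (BabyM.Fi23B.m t)) r hr
      · exact lift_extra fi23_extra _ (rels BabyM.Instance.all BabyM.Instance.ok) r hr) ⟨.g, t2_ne⟩
  exact ⟨K, e⟩

end model

/-- **`Fi23` is a subgroup of the Baby Monster.** -/
theorem exists_fi23 : ∃ f : Spor.Fi23 →* Spor.BabyMonster, Function.Injective f := by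
  have hs : IsSimpleGroup Spor.BabyMonster := S1704.result.1
  obtain ⟨e⟩ := KFacts.Baby.Sheet.exists_iso
  obtain ⟨K, ⟨g⟩⟩ := fi23_model
  exact ⟨e.symm.toMonoidHom.comp (K.subtype.comp g.toMonoidHom),
    e.symm.injective.comp (K.subtype_injective.comp g.injective)⟩

/-- a Frobenius group from self-centralizing elements -/
theorem frob_of_sc {S : Type*} [Group S] [Finite S] {N : ℕ} (hc : Nat.card S = N) {s e : ℕ} (hs : s.Prime)
    (hsN : s ∣ N) (hsq : ¬ s * s ∣ N) (h : H537.Cop.SC s S) (he : 1 < e)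
    (hu : ∀ f ∈ List.range s, f ∣ s - 1 → s * f ∣ N → N / (s * f) % s = 1 → f = e) : HasFrob S s e := by
  refine hasFrob_of_card hs hc hsN hsq (fun x hx y hxy => ?_) he hu
  have h1 : zpowers x ≤ centralizer ({x} : Set S) := by
    rw [zpowers_le]
    exact mem_centralizer_singleton_iff.2 rfl
  have h2 : zpowers x = centralizer ({x} : Set S) :=
    eq_of_le_of_card_ge h1 (by rw [h x hx, Nat.card_zpowers, hx])
  rw [h2]
  exact mem_centralizer_singleton_iff.2 hxy.eq.symm

theorem fin_fi23 : Finite Spor.Fi23 := Nat.finite_of_card_ne_zero (by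
  rw [(S1697.result : Cfsg.IsFi23 Cfsg.Spor.Fi23).2]; norm_num)

/-- **`23 : 11` in the Baby Monster.** -/
theorem frob_23 : HasFrob Spor.BabyMonster 23 11 := by
  have hfin := fin_fi23
  obtain ⟨f, hf⟩ := exists_fi23
  refine HasFrob.of_injective ?_ f hf
  exact frob_of_sc (N := 4089470473293004800) S1697.result.2 (by norm_num) (by norm_num) (by norm_num)
    (H537.Cop.fi23_23 ⟨MulEquiv.refl _⟩) (by norm_num) (by decide)

end Cfsg.Agent.H455.RecB
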