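import Mathlib
import Cfsg.Agent.H363.TwoPrimes
import Cfsg.Agent.Prune
set_option linter.all false
prune_inst 0x7f00000000000000000000000000000000000000000000000000000000000000000000000000000000000000000000000000000000000000000000000000000000000000000000000000000000000000003fffffffffffffffffffffffffffbeffbdffffffff
open scoped Cfsg.Agent.FastGrp

/-!
# Six primes between `m` and `2m`

For `m ≥ 24` there are six primes in `(m, 2m]`; for `n ≥ 47` there are six primes in `(n / 2, n]`.
-/

set_option autoImplicit false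

namespace Cfsg.Agent.H455.SixPrimes

open Nat Finset
open Cfsg.Agent.H363.TwoPrimes (T centralBinom_le pow_ten_le)

theorem main_inequality (n : ℕ) (hn : 2048 ≤ n) :
    n * ((2 * n) ^ sqrt (2 * n) * 4 ^ (2 * n / 3) * (2 * n) ^ 5) ≤ 4 ^ n := by
  set s := sqrt (2 * n) with hs
  have hs64 : 64 ≤ s := by
    rw [hs, Nat.le_sqrt]
    omega
  have hlt : 2 * n < (s + 1) * (s + 1) := Nat.lt_succ_sqrt (2 * n)
  have hle : s * s ≤ 2 * n := Nat.sqrt_le (2 * n)
  set k := n - 2 * n / 3 with hk
  have hk1 : 10 * k ≥ s * (s + 6) := by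
    have h1 : 3 * k ≥ n := by omega
    nlinarith
  have h1 : (s + 1) ^ (s + 6) ≤ 2 ^ k := by
    have h2 : ((s + 1) ^ (s + 6)) ^ 10 ≤ (2 ^ k) ^ 10 := by
      calc ((s + 1) ^ (s + 6)) ^ 10 = ((s + 1) ^ 10) ^ (s + 6) := by
            rw [← pow_mul, ← pow_mul, Nat.mul_comm]
        _ ≤ (2 ^ s) ^ (s + 6) := Nat.pow_le_pow_left (pow_ten_le s hs64) _
        _ = 2 ^ (s * (s + 6)) := by rw [← pow_mul]
        _ ≤ 2 ^ (10 * k) := Nat.pow_le_pow_right (by norm_num) hk1
        _ = (2 ^ k) ^ 10 := by rw [← pow_mul, Nat.mul_comm]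
    exact (Nat.pow_le_pow_iff_left (by norm_num)).mp h2
  have h3 : (2 * n) ^ (s + 6) ≤ 4 ^ k := by
    calc (2 * n) ^ (s + 6) ≤ ((s + 1) * (s + 1)) ^ (s + 6) := Nat.pow_le_pow_left hlt.le _
      _ = (s + 1) ^ (s + 6) * (s + 1) ^ (s + 6) := by rw [mul_pow]
      _ ≤ 2 ^ k * 2 ^ k := Nat.mul_le_mul h1 h1
      _ = 4 ^ k := by rw [← mul_pow]; norm_num
  calc n * ((2 * n) ^ s * 4 ^ (2 * n / 3) * (2 * n) ^ 5)
      ≤ (2 * n) * ((2 * n) ^ s * 4 ^ (2 * n / 3) * (2 * n) ^ 5) :=
        Nat.mul_le_mul_right _ (by omega)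
    _ = (2 * n) ^ (s + 6) * 4 ^ (2 * n / 3) := by ring
    _ ≤ 4 ^ k * 4 ^ (2 * n / 3) := Nat.mul_le_mul_right _ h3
    _ = 4 ^ (k + 2 * n / 3) := by rw [← pow_add]
    _ = 4 ^ n := by congr 1; omega

theorem six_le_card_T_large (n : ℕ) (hn : 2048 ≤ n) : 6 ≤ (T n).card := by
  by_contra h
  have h1 : (T n).card ≤ 5 := by omega
  have h2 : 4 ^ n < n * n.centralBinom := Nat.four_pow_lt_mul_centralBinom n (by omega)
  have h3 : centralBinom n ≤ (2 * n) ^ sqrt (2 * n) * 4 ^ (2 * n / 3) * (2 * n) ^ 5 := by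
    refine (centralBinom_le n (by omega)).trans ?_
    apply Nat.mul_le_mul_left
    exact Nat.pow_le_pow_right (by omega) h1
  have h4 := main_inequality n hn
  have h5 : n * n.centralBinom ≤ 4 ^ n := (Nat.mul_le_mul_left n h3).trans h4
  omega

theorem step {m : ℕ} (q : ℕ) (S : Finset ℕ) (a b : ℕ) (hS : ∀ p ∈ S, p.Prime ∧ a ≤ p ∧ p ≤ b)
    (hc : 6 ≤ S.card) (hb : b ≤ 2 * q) (H : m < q → 6 ≤ (T m).card) (hm : m < a) :
    6 ≤ (T m).card := by
  by_cases h : m < q
  · exact H h
  · refine hc.trans (Finset.card_le_card ?_)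
    intro p hp
    obtain ⟨h1, h2, h3⟩ := hS p hp
    simp only [T, Finset.mem_filter, Finset.mem_Ioc]
    exact ⟨⟨by omega, by omega⟩, h1⟩

/-- **Six primes**: for `m ≥ 24` there are six primes in `(m, 2m]`. -/
theorem six_le_card_T (m : ℕ) (hm : 24 ≤ m) : 6 ≤ (T m).card := by
  rcases Nat.lt_or_ge m 2048 with h | h
  · replace h : m < 2053 := by omega
    revert h
    refine step 1044 {2053, 2063, 2069, 2081, 2083, 2087} 2053 2087 (by simp; norm_num)
      (by decide) (by norm_num) ?_
    intro h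
    replace h : m < 1049 := by omega
    revert h
    refine step 544 {1049, 1051, 1061, 1063, 1069, 1087} 1049 1087 (by simp; norm_num)
      (by decide) (by norm_num) ?_
    intro h
    replace h : m < 547 := by omega
    revert h
    refine step 289 {547, 557, 563, 569, 571, 577} 547 577 (by simp; norm_num)
      (by decide) (by norm_num) ?_
    intro h
    replace h : m < 293 := by omega
    revert h
    refine step 166 {293, 307, 311, 313, 317, 331} 293 331 (by simp; norm_num)
      (by decide) (by norm_num) ?_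
    intro h
    replace h : m < 167 := by omega
    revert h
    refine step 97 {167, 173, 179, 181, 191, 193} 167 193 (by simp; norm_num)
      (by decide) (by norm_num) ?_
    refine step 57 {97, 101, 103, 107, 109, 113} 97 113 (by simp; norm_num)
      (by decide) (by norm_num) ?_
    intro h
    replace h : m < 59 := by omega
    revert h
    refine step 40 {59, 61, 67, 71, 73, 79} 59 79 (by simp; norm_num)
      (by decide) (by norm_num) ?_
    intro h
    replace h : m < 41 := by omega
    revert h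
    refine step 31 {41, 43, 47, 53, 59, 61} 41 61 (by simp; norm_num)
      (by decide) (by norm_num) ?_
    refine step 27 {31, 37, 41, 43, 47, 53} 31 53 (by simp; norm_num)
      (by decide) (by norm_num) ?_
    intro h
    replace h : m < 29 := by omega
    revert h
    refine step 24 {29, 31, 37, 41, 43, 47} 29 47 (by simp; norm_num)
      (by decide) (by norm_num) ?_
    intro h
    omega
  · exact six_le_card_T_large m h

/-- for `n ≥ 47` there are six primes `p ≤ n` with `n < 2 p` -/
theorem exists_six (n : ℕ) (hn : 47 ≤ n) :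
    ∃ S : Finset ℕ, S.card = 6 ∧ ∀ p ∈ S, p.Prime ∧ p ≤ n ∧ n < 2 * p := by
  by_cases h47 : n = 47
  · refine ⟨{29, 31, 37, 41, 43, 47}, by decide, ?_⟩
    subst h47
    simp
    norm_num
  · have h1 := six_le_card_T (n / 2) (by omega)
    obtain ⟨S, hS, hc⟩ := Finset.exists_subset_card_eq h1
    refine ⟨S, hc, ?_⟩
    intro p hp
    have h2 := hS hp
    simp only [T, Finset.mem_filter, Finset.mem_Ioc] at h2
    exact ⟨h2.2, by omega, by omega⟩

end Cfsg.Agent.H455.SixPrimes
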