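import Mathlib
import Cfsg.Prelude.Def_Transfer
import Cfsg.Agent.Transfer.Extraspecial
import Cfsg.Agent.Transfer.TausskyTwoGroup
set_option linter.all false

/-!
# Finite `p`-groups with an extraspecial subgroup of index `p`
-/

set_option autoImplicit false

namespace Cfsg.Agent.H455.ExtraIndexP

open Subgroup
open scoped commutatorElement

universe u

variable {S : Type u} [Group S] [Finite S] {p : ℕ} [Fact p.Prime]

/-- a subgroup of index `p` in a finite `p`-group is normal -/
theorem normal_of_index (hS : IsPGroup p S) (Q : Subgroup S) (hQi : Q.index = p) : Q.Normal := by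
  have hp : p.Prime := Fact.out
  obtain ⟨n, hn⟩ := IsPGroup.iff_card.mp hS
  apply Subgroup.normal_of_index_eq_minFac_card
  rw [hQi, hn]
  have hn0 : n ≠ 0 := by
    rintro rfl
    have h1 := Q.index_dvd_card
    rw [hQi, hn, pow_zero, Nat.dvd_one] at h1
    exact hp.one_lt.ne' h1
  rw [hp.pow_minFac hn0]

/-- a normal subgroup of order `p` of a finite `p`-group is central -/
theorem le_center_of_card (hS : IsPGroup p S) (N : Subgroup S) [N.Normal] (hN : Nat.card N = p) :
    N ≤ center S := by
  have hp : p.Prime := Fact.out
  have hne : N ≠ ⊥ := by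
    intro h
    rw [h, card_bot] at hN
    exact hp.one_lt.ne hN
  obtain ⟨Z, hZN, hZc, hZ⟩ :=
    Cfsg.Agent.Transfer.TausskyTwoGroup.exists_central_card_prime_le hS N hne
  have : Z = N := by
    apply Subgroup.eq_of_le_of_card_ge hZN
    rw [hZ, hN]
  rw [← this]
  exact hZc

variable {Q : Subgroup S}

omit [Finite S] [Fact p.Prime] in
/-- the centre of the extraspecial subgroup, viewed in `S` -/
theorem card_map_center (hQ : Cfsg.IsExtraspecial p ↥Q) :
    Nat.card ((center ↥Q).map Q.subtype) = p := by
  rw [Nat.card_congr ((center ↥Q).equivMapOfInjective _ Q.subtype_injective).toEquiv.symm]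
  exact hQ.2

theorem map_center_le (hS : IsPGroup p S) (hQ : Cfsg.IsExtraspecial p ↥Q) (hQi : Q.index = p) :
    (center ↥Q).map Q.subtype ≤ center S := by
  have := normal_of_index hS Q hQi
  have h : ((center ↥Q).map Q.subtype).Normal := inferInstance
  exact le_center_of_card hS _ (card_map_center hQ)

theorem center_dichotomy (hS : IsPGroup p S) (hQ : Cfsg.IsExtraspecial p ↥Q) (hQi : Q.index = p) :
    Subgroup.center S = (Subgroup.center ↥Q).map Q.subtype ∨
      (Q ⊔ Subgroup.center S = ⊤ ∧ Nat.card (Subgroup.center S) = p ^ 2) := by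
  have hp : p.Prime := Fact.out
  have hle := map_center_le hS hQ hQi
  have hinf : center S ⊓ Q = (center ↥Q).map Q.subtype := by
    apply le_antisymm
    · rintro x ⟨hx, hxQ⟩
      refine ⟨⟨x, hxQ⟩, ?_, rfl⟩
      rw [SetLike.mem_coe, mem_center_iff]
      intro g
      apply Subtype.ext
      exact mem_center_iff.mp hx g
    · exact le_inf hle (map_subtype_le _)
  by_cases h : center S ≤ Q
  · left
    rw [← hinf, inf_eq_left.mpr h]
  · right
    have := normal_of_index hS Q hQi
    have htop : Q ⊔ center S = ⊤ := by
      have h1 : Q < Q ⊔ center S := by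
        refine lt_of_le_of_ne le_sup_left ?_
        intro h2
        exact h (by rw [h2]; exact le_sup_right)
      have h2 : Q.relIndex (Q ⊔ center S) * (Q ⊔ center S).index = Q.index :=
        relIndex_mul_index le_sup_left
      rw [hQi] at h2
      have h3 : Q.relIndex (Q ⊔ center S) ≠ 1 := by
        intro h3
        rw [relIndex_eq_one] at h3
        exact absurd h3 (not_le_of_gt h1)
      have h4 : Q.relIndex (Q ⊔ center S) = p :=
        ((Nat.dvd_prime hp).mp (Dvd.intro _ h2)).resolve_left h3
      rw [h4] at h2
      have h5 : (Q ⊔ center S).index = 1 := by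
        have := hp.pos
        have h6 : p * (Q ⊔ center S).index = p * 1 := by rw [h2, mul_one]
        exact Nat.eq_of_mul_eq_mul_left this h6
      exact index_eq_one.mp h5
    refine ⟨htop, ?_⟩
    have h1 : Q.relIndex (center S) = p := by
      have h2 : Q.relIndex (Q ⊔ center S) = Q.relIndex (center S) := by
        rw [relIndex_sup_left]
      rw [← h2, htop, relIndex_top_right, hQi]
    have h3 : (Q ⊓ center S).relIndex (center S) * Nat.card (Q ⊓ center S : Subgroup S) =
        Nat.card (center S) := by
      rw [mul_comm]
      have := Subgroup.card_mul_index ((Q ⊓ center S).subgroupOf (center S))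
      rw [← this]
      congr 1
      rw [Nat.card_congr (Subgroup.subgroupOfEquivOfLe (inf_le_right : Q ⊓ center S ≤ center S)).toEquiv]
    rw [inf_relIndex_right, h1, inf_comm, hinf, card_map_center hQ] at h3
    rw [← h3, sq]

/-- `|S| = p^(2+2n)`, derived length at most three, exponent dividing `p^3`. -/
theorem order_derived_exponent (hS : IsPGroup p S) (hQ : Cfsg.IsExtraspecial p ↥Q)
    (hQi : Q.index = p) :
    (∃ n : ℕ, 1 ≤ n ∧ Nat.card S = p ^ (2 + 2 * n)) ∧ derivedSeries S 3 = ⊥ ∧
      ∀ x : S, x ^ (p ^ 3) = 1 := by
  have hp : p.Prime := Fact.out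
  have hn := normal_of_index hS Q hQi
  have hcardq : Nat.card (S ⧸ Q) = p := by
    rw [← hQi]; rfl
  refine ⟨?_, ?_, ?_⟩
  · obtain ⟨n, hn1, hn⟩ := Cfsg.Agent.Transfer.Extraspecial.exists_card_eq hp hQ
    refine ⟨n, hn1, ?_⟩
    rw [← Q.card_mul_index, hn, hQi]
    ring
  · have h1 : derivedSeries S 1 ≤ Q := by
      have hcyc : IsCyclic (S ⧸ Q) := isCyclic_of_prime_card hcardq
      have hcomm : ∀ a b : S ⧸ Q, a * b = b * a := fun a b =>
        (IsCyclic.commGroup.mul_comm a b)
      rw [derivedSeries_one, _root_.commutator_def, commutator_le]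
      intro a _ b _
      rw [← QuotientGroup.eq_one_iff]
      have : ((⁅a, b⁆ : S) : S ⧸ Q) = ⁅(a : S ⧸ Q), (b : S ⧸ Q)⁆ := rfl
      rw [this, commutatorElement_eq_one_iff_mul_comm]
      exact hcomm _ _
    have h2 : derivedSeries S 2 ≤ (center ↥Q).map Q.subtype := by
      have h3 : derivedSeries S 2 ≤ ⁅Q, Q⁆ := by
        rw [derivedSeries_succ]
        exact commutator_mono h1 h1
      have h4 : ⁅Q, Q⁆ = (commutator ↥Q).map Q.subtype := by
        rw [_root_.commutator_def, map_commutator, ← MonoidHom.range_eq_map, Subgroup.range_subtype]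
      rw [h4, hQ.1.2.2] at h3
      exact h3
    have h5 : derivedSeries S 3 ≤ ⁅center S, (⊤ : Subgroup S)⁆ := by
      rw [derivedSeries_succ]
      exact commutator_mono (h2.trans (map_center_le hS hQ hQi)) le_top
    have h6 : ⁅center S, (⊤ : Subgroup S)⁆ = ⊥ := by
      rw [eq_bot_iff, commutator_le]
      intro a ha b _
      rw [mem_bot, commutatorElement_eq_one_iff_mul_comm]
      exact (mem_center_iff.mp ha b).symm
    rw [h6] at h5
    exact eq_bot_iff.mpr h5
  · intro x
    have h1 : x ^ p ∈ Q := by
      rw [← QuotientGroup.eq_one_iff, QuotientGroup.mk_pow, ← hcardq]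
      exact pow_card_eq_one'
    have h2 := Cfsg.Agent.Transfer.Extraspecial.pow_mem_center hQ ⟨x ^ p, h1⟩
    have h3 := Cfsg.Agent.Transfer.Extraspecial.pow_eq_one_of_mem_center hQ h2
    have h4 := congrArg Subtype.val h3
    simp only [Subgroup.coe_pow, Subgroup.coe_one] at h4
    rw [← h4]
    rw [← pow_mul, ← pow_mul]
    congr 1
    ring

/-- an abelian subgroup of index `p` in a group whose derived subgroup is of order `p` and
central: the centre has index at most `p ^ 2` -/
theorem card_le_of_abelian_index {E : Type u} [Group E] [Finite E] (hE : Cfsg.IsExtraspecial p E)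
    (A : Subgroup E) (hA : ∀ a ∈ A, ∀ b ∈ A, a * b = b * a) (hi : A.index ∣ p) :
    Nat.card E ∣ p ^ 3 := by
  have hp : p.Prime := Fact.out
  have hne : A.index ≠ 1 := by
    intro h
    rw [index_eq_one] at h
    obtain ⟨x, y, hxy⟩ := Cfsg.Agent.Transfer.Extraspecial.exists_comm_ne_one hp.one_lt.ne' hE
    apply hxy
    rw [commutatorElement_eq_one_iff_mul_comm]
    exact hA x (h ▸ mem_top x) y (h ▸ mem_top y)
  have hi' : A.index = p := ((Nat.dvd_prime hp).mp hi).resolve_left hne
  have hEp : IsPGroup p E := hE.1.1
  have hAn := normal_of_index hEp A hi'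
  -- pick `x ∉ A`
  have : ∃ x : E, x ∉ A := by
    by_contra hcon
    push Not at hcon
    exact hne (index_eq_one.mpr (eq_top_iff.mpr fun x _ => hcon x))
  obtain ⟨x, hx⟩ := this
  have hcomm := Cfsg.Agent.Transfer.Extraspecial.comm_mem_center hE
  -- the homomorphism `a ↦ ⁅a, x⁆` from `A` to the derived subgroup
  let f : A →* commutator E :=
    (Cfsg.Agent.Transfer.Extraspecial.commHom' hcomm x).comp A.subtype
  have hker : f.ker ≤ (center E).subgroupOf A := by
    rintro ⟨a, ha⟩ hk
    rw [mem_subgroupOf]
    have h1 : a * x = x * a := by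
      have : a ∈ (Cfsg.Agent.Transfer.Extraspecial.commHom' hcomm x).ker := hk
      exact (Cfsg.Agent.Transfer.Extraspecial.mem_ker_commHom' hcomm).mp this
    -- `C_E(a)` contains `A` and `x`
    have h2 : A ≤ centralizer {a} := by
      intro b hb
      rw [mem_centralizer_iff]
      intro c hc
      rw [Set.mem_singleton_iff] at hc
      subst hc
      exact hA c ha b hb
    have h3 : x ∈ centralizer {a} := by
      rw [mem_centralizer_iff]
      intro c hc
      rw [Set.mem_singleton_iff] at hc
      subst hc
      exact h1
    have h4 : centralizer {a} = ⊤ := by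
      have h5 : A.relIndex (centralizer {a}) * (centralizer {a}).index = A.index :=
        relIndex_mul_index h2
      rw [hi'] at h5
      have h6 : A.relIndex (centralizer {a}) ≠ 1 := by
        intro h6
        rw [relIndex_eq_one] at h6
        exact hx (h6 h3)
      have h7 : A.relIndex (centralizer {a}) = p :=
        ((Nat.dvd_prime hp).mp (Dvd.intro _ h5)).resolve_left h6
      rw [h7] at h5
      have h8 : p * (centralizer {a}).index = p * 1 := by rw [h5, mul_one]
      exact index_eq_one.mp (Nat.eq_of_mul_eq_mul_left hp.pos h8)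
    rw [mem_center_iff]
    intro g
    have : g ∈ centralizer {a} := h4 ▸ mem_top g
    exact (mem_centralizer_iff.mp this a rfl).symm
  have h1 : Nat.card f.range ∣ p := by
    rw [← Cfsg.Agent.Transfer.Extraspecial.card_commutator hE]
    exact card_subgroup_dvd_card _
  have h2 : Nat.card f.ker ∣ p := by
    have h3 : Nat.card f.ker ∣ Nat.card ((center E).subgroupOf A) := card_dvd_of_le hker
    refine h3.trans ?_
    have h4 : Nat.card ((center E).subgroupOf A) ∣ Nat.card (center E) := by
      have h5 := card_comap_dvd_of_injective (center E) A.subtype A.subtype_injective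
      exact h5
    rw [hE.2] at h4
    exact h4
  have h3 : Nat.card A ∣ p * p := by
    rw [← f.ker.card_mul_index, index_ker]
    exact mul_dvd_mul h2 h1
  have h4 : Nat.card E = Nat.card A * p := by
    rw [← A.card_mul_index, hi']
  rw [h4]
  calc Nat.card A * p ∣ p * p * p := mul_dvd_mul_right h3 p
    _ = p ^ 3 := by ring

/-- `S` has an abelian subgroup of index `p` iff `|S| = p^4`. -/
theorem abelian_iff (hS : IsPGroup p S) (hQ : Cfsg.IsExtraspecial p ↥Q) (hQi : Q.index = p) :
    (∃ A : Subgroup S, IsMulCommutative ↥A ∧ A.index = p) ↔ Nat.card S = p ^ 4 := by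
  have hp : p.Prime := Fact.out
  constructor
  · rintro ⟨A, hA, hAi⟩
    have hidx : (A.subgroupOf Q).index ∣ p := by
      have hAn := normal_of_index hS A hAi
      have h1 : A.relIndex Q ∣ A.index := relIndex_dvd_index_of_normal A Q
      rw [hAi] at h1
      exact h1
    have h1 : Nat.card ↥Q ∣ p ^ 3 := by
      refine card_le_of_abelian_index hQ (A.subgroupOf Q) ?_ hidx
      intro a ha b hb
      apply Subtype.ext
      have h2 := (IsMulCommutative.is_comm (M := ↥A)).comm ⟨a, ha⟩ ⟨b, hb⟩
      have h3 : (a : S) * b = b * a := congrArg Subtype.val h2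
      exact h3
    obtain ⟨n, hn1, hn⟩ := Cfsg.Agent.Transfer.Extraspecial.exists_card_eq hp hQ
    rw [hn] at h1
    have h2 := (Nat.pow_dvd_pow_iff_le_right hp.one_lt).mp h1
    have h3 : n = 1 := by omega
    rw [← Q.card_mul_index, hn, hQi, h3]
    ring
  · intro hcard
    rcases center_dichotomy hS hQ hQi with hZ | ⟨_, hZ⟩
    · -- centre of order `p`: take the centralizer of a noncentral element of `Z_2`
      have hZc : Nat.card (center S) = p := by rw [hZ, card_map_center hQ]
      have hq : IsPGroup p (S ⧸ center S) := hS.to_quotient _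
      have hnt : Nontrivial (S ⧸ center S) := by
        rw [← Finite.one_lt_card_iff_nontrivial]
        have h1 := (center S).card_mul_index
        have h2 : (center S).index = Nat.card (S ⧸ center S) := rfl
        rw [hZc, hcard, h2] at h1
        have h3 : p * Nat.card (S ⧸ center S) = p * p ^ 3 := by rw [h1]; ring
        rw [Nat.eq_of_mul_eq_mul_left hp.pos h3]
        exact Nat.one_lt_pow (by norm_num) hp.one_lt
      have hcn : Nontrivial (center (S ⧸ center S)) := hq.center_nontrivial
      obtain ⟨⟨y, hy⟩, hy1⟩ := exists_ne (1 : center (S ⧸ center S))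
      obtain ⟨x, rfl⟩ := QuotientGroup.mk_surjective y
      have hxZ : x ∉ center S := by
        intro h
        apply hy1
        apply Subtype.ext
        exact (QuotientGroup.eq_one_iff x).mpr h
      have hcx : ∀ g : S, ⁅g, x⁆ ∈ center S := by
        intro g
        rw [← QuotientGroup.eq_one_iff]
        have : ((⁅g, x⁆ : S) : S ⧸ center S) = ⁅(g : S ⧸ center S), (x : S ⧸ center S)⁆ := rfl
        rw [this, commutatorElement_eq_one_iff_mul_comm]
        exact mem_center_iff.mp hy g
      let f : S →* center S :=
        { toFun := fun g => ⟨⁅g, x⁆, hcx g⟩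
          map_one' := by ext; simp
          map_mul' := by
            intro a b
            ext
            simp only [Subgroup.coe_mul]
            have h1 := mem_center_iff.mp (hcx b) a
            -- ⁅ab,x⁆ = a ⁅b,x⁆ a⁻¹ ⁅a,x⁆
            have h2 : ⁅a * b, x⁆ = a * ⁅b, x⁆ * a⁻¹ * ⁅a, x⁆ := by
              simp only [commutatorElement_def]
              group
            rw [h2, h1]
            have h3 := mem_center_iff.mp (hcx b) ⁅a, x⁆
            rw [mul_assoc ⁅b, x⁆, mul_inv_cancel, mul_one, ← h3] }
      have hfker : ∀ g : S, g ∈ f.ker ↔ g * x = x * g := by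
        intro g
        rw [MonoidHom.mem_ker, Subtype.ext_iff]
        show ⁅g, x⁆ = 1 ↔ _
        rw [commutatorElement_eq_one_iff_mul_comm]
      have hidx : f.ker.index = p := by
        have h1 : f.ker.index ∣ p := by
          rw [index_ker, ← hZc]
          exact card_subgroup_dvd_card _
        refine ((Nat.dvd_prime hp).mp h1).resolve_left ?_
        intro h2
        rw [index_eq_one] at h2
        apply hxZ
        rw [mem_center_iff]
        intro g
        exact (hfker g).mp (h2 ▸ mem_top g)
      refine ⟨f.ker, ?_, hidx⟩
      -- `f.ker` has order `p^3` and a centre of order at least `p^2`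
      have hcK : Nat.card f.ker = p ^ 3 := by
        have h1 := f.ker.card_mul_index
        rw [hidx, hcard] at h1
        have h2 : Nat.card f.ker * p = p ^ 3 * p := by rw [h1]; ring
        exact Nat.eq_of_mul_eq_mul_right hp.pos h2
      -- the subgroup generated by the centre and `x`
      have hxK : x ∈ f.ker := (hfker x).mpr rfl
      have hZK : center S ≤ f.ker := by
        intro z hz
        exact (hfker z).mpr (mem_center_iff.mp hz x).symm
      have hlt : (center S).subgroupOf f.ker < center f.ker := by
        refine lt_of_le_of_ne ?_ ?_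
        · intro z hz
          rw [mem_center_iff]
          intro g
          apply Subtype.ext
          exact mem_center_iff.mp hz g
        · intro heq
          have h1 : (⟨x, hxK⟩ : f.ker) ∈ center f.ker := by
            rw [mem_center_iff]
            rintro ⟨g, hg⟩
            apply Subtype.ext
            exact (hfker g).mp hg
          rw [← heq] at h1
          exact hxZ h1
      have hcz : Nat.card ((center S).subgroupOf f.ker) = p := by
        rw [Nat.card_congr (Subgroup.subgroupOfEquivOfLe hZK).toEquiv, hZc]
      have hKp : IsPGroup p f.ker := hS.to_subgroup _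
      obtain ⟨m, hm⟩ := IsPGroup.iff_card.mp (hKp.to_subgroup (center f.ker))
      have hm2 : 2 ≤ m := by
        have h1 : Nat.card ((center S).subgroupOf f.ker) < Nat.card (center f.ker) := by
          apply lt_of_le_of_ne (Nat.card_le_card_of_injective _
            (Subgroup.inclusion_injective hlt.le))
          intro h2
          exact hlt.ne (Subgroup.eq_of_le_of_card_ge hlt.le h2.ge)
        rw [hcz, hm] at h1
        by_contra hcon
        have : m ≤ 1 := by omega
        have h3 : p ^ m ≤ p ^ 1 := Nat.pow_le_pow_right hp.pos this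
        rw [pow_one] at h3
        omega
      have hcyc : IsCyclic (f.ker ⧸ center f.ker) := by
        have h1 : Nat.card (f.ker ⧸ center f.ker) ∣ p := by
          have h2 := (center f.ker).card_mul_index
          rw [hm, hcK] at h2
          have h3 : (center f.ker).index = Nat.card (f.ker ⧸ center f.ker) := rfl
          rw [h3] at h2
          have h4 : p ^ 2 ∣ p ^ m := pow_dvd_pow p hm2
          obtain ⟨c, hc⟩ := h4
          rw [hc, mul_assoc] at h2
          have h5 : c * Nat.card (f.ker ⧸ center f.ker) = p := by
            have h6 : p ^ 2 * (c * Nat.card (f.ker ⧸ center f.ker)) = p ^ 2 * p := by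
              rw [h2]; ring
            exact Nat.eq_of_mul_eq_mul_left (pow_pos hp.pos 2) h6
          exact Dvd.intro_left _ h5
        rcases (Nat.dvd_prime hp).mp h1 with h2 | h2
        · have : Subsingleton (f.ker ⧸ center f.ker) := (Nat.card_eq_one_iff_unique.mp h2).1
          exact isCyclic_of_subsingleton
        · exact isCyclic_of_prime_card h2
      have hab : ∀ a b : f.ker, a * b = b * a := fun a b =>
        (MonoidHom.isMulCommutative_of_isCyclic_of_ker_le_center (QuotientGroup.mk' (center f.ker))
          (by rw [QuotientGroup.ker_mk'])).is_comm.comm a b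
      exact ⟨⟨hab⟩⟩
    · -- centre of order `p^2`
      obtain ⟨A, hA, hZA⟩ := Sylow.exists_subgroup_card_pow_succ (G := S) (p := p) (n := 2)
        (by rw [hcard]; exact pow_dvd_pow p (by norm_num)) hZ
      refine ⟨A, ?_, ?_⟩
      · have hcyc : IsCyclic (A ⧸ center A) := by
          have hle : (center S).subgroupOf A ≤ center A := by
            intro z hz
            rw [mem_center_iff]
            intro g
            apply Subtype.ext
            exact mem_center_iff.mp hz g
          have h0 : Nat.card ((center S).subgroupOf A) = p ^ 2 := by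
            rw [Nat.card_congr (Subgroup.subgroupOfEquivOfLe hZA).toEquiv, hZ]
          have h00 : p ^ 2 ∣ Nat.card (center A) := by
            rw [← h0]
            exact card_dvd_of_le hle
          have h1 : Nat.card (A ⧸ center A) ∣ p := by
            have h2 := (center A).card_mul_index
            have h3 : (center A).index = Nat.card (A ⧸ center A) := rfl
            rw [h3, hA] at h2
            obtain ⟨c, hc⟩ := h00
            rw [hc, mul_assoc] at h2
            have h5 : c * Nat.card (A ⧸ center A) = p := by
              have h6 : p ^ 2 * (c * Nat.card (A ⧸ center A)) = p ^ 2 * p := by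
                rw [h2]; ring
              exact Nat.eq_of_mul_eq_mul_left (pow_pos hp.pos 2) h6
            exact Dvd.intro_left _ h5
          rcases (Nat.dvd_prime hp).mp h1 with h2 | h2
          · have : Subsingleton (A ⧸ center A) := (Nat.card_eq_one_iff_unique.mp h2).1
            exact isCyclic_of_subsingleton
          · exact isCyclic_of_prime_card h2
        have hab : ∀ a b : A, a * b = b * a := fun a b =>
          (MonoidHom.isMulCommutative_of_isCyclic_of_ker_le_center (QuotientGroup.mk' (center A))
            (by rw [QuotientGroup.ker_mk'])).is_comm.comm a b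
        exact ⟨⟨hab⟩⟩
      · have h1 := A.card_mul_index
        rw [hA, hcard] at h1
        have h2 : p ^ (2 + 1) * A.index = p ^ (2 + 1) * p := by rw [h1]; ring
        exact Nat.eq_of_mul_eq_mul_left (pow_pos hp.pos _) h2

end Cfsg.Agent.H455.ExtraIndexP
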